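import Mathlib
import Cfsg.Agent.Hall.Existence
import Cfsg.Agent.Cores.Fitting
import Cfsg.Agent.Cores.PCore

/-!
# Solvable groups with an abelian Hall `p'`-subgroup
-/

set_option autoImplicit false
set_option linter.style.haveILetI false
set_option linter.unusedSectionVars false

namespace Cfsg.Agent.H77.PPAb

open Subgroup
open scoped commutatorElement

universe u

variable {G : Type u} [Group G]

/-- The set of primes different from `p`. -/
def pi (p : ℕ) : Set ℕ := {q | q ≠ p}

theorem isPiNumber_pi {p n : ℕ} (hp : p.Prime) :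
    Hall.IsPiNumber (pi p) n ↔ n.Coprime p := by
  refine ⟨fun h => ?_, fun h q hq hqn hqp => ?_⟩
  · exact ((hp.coprime_iff_not_dvd).2 fun hd => h p hp hd rfl).symm
  · subst hqp
    exact (hp.coprime_iff_not_dvd.1 h.symm) hqn

theorem isPiHall_pi {p : ℕ} (hp : p.Prime) {H : Subgroup G} (h1 : (Nat.card H).Coprime p)
    (h2 : ∀ q : ℕ, q.Prime → q ∣ H.index → q = p) : Cfsg.IsPiHall (pi p) H :=
  ⟨(isPiNumber_pi hp).2 h1, fun q hq hqp hd => hqp (h2 q hq hd)⟩

theorem isPiHall_pi_dvd {p : ℕ} {H : Subgroup G} (h : Cfsg.IsPiHall (pi p) H) {q : ℕ} (hq : q.Prime)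
    (hd : q ∣ H.index) : q = p := by
  by_contra hne
  exact h.2 q hq hne hd

/-- Cardinality of a join with a normalised subgroup. -/
theorem card_sup_dvd_of_normalizes [Finite G] {A B : Subgroup G}
    (h : A ≤ normalizer (B : Set G)) : Nat.card ↥(A ⊔ B) ∣ Nat.card A * Nat.card B := by
  set K := normalizer (B : Set G)
  have hB : B ≤ K := le_normalizer
  haveI : (B.subgroupOf K).Normal := normal_in_normalizer
  have h1 := Cores.card_sup_dvd (A.subgroupOf K) (B.subgroupOf K)
  rw [← Subgroup.subgroupOf_sup h hB, Nat.card_congr (subgroupOfEquivOfLe (sup_le h hB)).toEquiv,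
    Nat.card_congr (subgroupOfEquivOfLe h).toEquiv,
    Nat.card_congr (subgroupOfEquivOfLe hB).toEquiv] at h1
  exact h1

theorem coprime_card_sup [Finite G] {p : ℕ} {A B : Subgroup G} (h : A ≤ normalizer (B : Set G))
    (hA : (Nat.card A).Coprime p) (hB : (Nat.card B).Coprime p) :
    (Nat.card ↥(A ⊔ B)).Coprime p :=
  (hA.mul_left hB).coprime_dvd_left (card_sup_dvd_of_normalizes h)

theorem commute_of_normalizes {A B : Subgroup G} (hA : A ≤ normalizer (B : Set G))
    (hB : B ≤ normalizer (A : Set G)) (hd : A ⊓ B = ⊥) :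
    ∀ a ∈ A, ∀ b ∈ B, Commute a b := by
  intro a ha b hb
  rw [← commutatorElement_eq_one_iff_commute, ← Subgroup.mem_bot, ← hd, commutatorElement_def]
  refine Subgroup.mem_inf.2 ⟨?_, ?_⟩
  · rw [mul_assoc, mul_assoc]
    refine mul_mem ha ?_
    rw [← mul_assoc]
    exact (Subgroup.mem_normalizer_iff.1 (hB hb) a⁻¹).1 (inv_mem ha)
  · exact mul_mem ((Subgroup.mem_normalizer_iff.1 (hA ha) b).1 hb) (inv_mem hb)

theorem eq_bot_of_pgroup_of_coprime [Finite G] {p : ℕ} [Fact p.Prime] {A : Subgroup G}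
    (h : IsPGroup p A) (hc : (Nat.card A).Coprime p) : A = ⊥ := by
  obtain ⟨k, hk⟩ := IsPGroup.iff_card.1 h
  rcases Nat.eq_zero_or_pos k with rfl | hk0
  · exact Subgroup.card_eq_one.1 (by simpa using hk)
  · rw [hk, Nat.coprime_pow_left_iff hk0, Nat.coprime_self] at hc
    exact absurd hc (Fact.out : p.Prime).ne_one

theorem inf_eq_bot_of_pgroup_of_coprime [Finite G] {p : ℕ} [Fact p.Prime] {A B : Subgroup G}
    (h : IsPGroup p A) (hc : (Nat.card B).Coprime p) : A ⊓ B = ⊥ :=
  eq_bot_of_pgroup_of_coprime (h.to_le inf_le_left)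
    (hc.coprime_dvd_left (Subgroup.card_dvd_of_le inf_le_right))

/-- With an abelian Hall `p'`-subgroup `H`, a `p`-subgroup normalised by `H` lies in `O_p`, and
`O_p H` is normal. -/
theorem solvable_structure [Finite G] [Group.IsSolvable G] {p : ℕ} [Fact p.Prime] {H : Subgroup G}
    (hH : Cfsg.IsPiHall (pi p) H) (hab : ∀ a ∈ H, ∀ b ∈ H, Commute a b) :
    (pCore p G ⊔ H).Normal ∧
      ∀ R : Subgroup G, IsPGroup p R → H ≤ normalizer (R : Set G) → R ≤ pCore p G := by
  have hp : p.Prime := Fact.out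
  set O := pCore p G with hO
  set π := QuotientGroup.mk' O with hπ
  set Hb := H.map π with hHb
  set F := Cfsg.fittingSubgroup (G ⧸ O) with hF
  have hHb' : Cfsg.IsPiHall (pi p) Hb :=
    Hall.IsPiHall.map (QuotientGroup.mk'_surjective O) hH
  have habb : ∀ a ∈ Hb, ∀ b ∈ Hb, Commute a b := by
    rintro _ ⟨a, ha, rfl⟩ _ ⟨b, hb, rfl⟩
    exact (hab a ha b hb).map π
  have hObot : pCore p (G ⧸ O) = ⊥ := Cores.pCore_quotient_pCore
  have hFcop : (Nat.card F).Coprime p := by
    refine ((hp.coprime_iff_not_dvd).2 fun hd => ?_).symm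
    haveI : Group.IsNilpotent F := Cores.fittingSubgroup_isNilpotent
    obtain ⟨P⟩ : Nonempty (Sylow p F) := inferInstance
    haveI hPn : (P : Subgroup F).Normal := Sylow.normal_of_normalizerCondition
      Group.normalizerCondition_of_isNilpotent P
    haveI : (P : Subgroup F).Characteristic := Sylow.characteristic_of_normal P hPn
    haveI : ((P : Subgroup F).map F.subtype).Normal := Cores.map_subtype_normal
    have hle : (P : Subgroup F).map F.subtype ≤ pCore p (G ⧸ O) :=
      Cores.le_pCore (P.isPGroup'.map F.subtype)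
    rw [hObot, le_bot_iff, Subgroup.map_eq_bot_iff_of_injective _ F.subtype_injective] at hle
    exact P.ne_bot_of_dvd_card hd hle
  have hFle : F ≤ Hb := by
    have hn : Hb ≤ normalizer (F : Set (G ⧸ O)) := by
      rw [Subgroup.normalizer_eq_top F]; exact le_top
    have hc := coprime_card_sup hn ((isPiNumber_pi hp).1 hHb'.1) hFcop
    exact le_sup_right.trans
      (Hall.IsPiHall.eq_of_le hHb' le_sup_left ((isPiNumber_pi hp).2 hc)).ge
  have hCF : centralizer (F : Set (G ⧸ O)) ≤ F := Cores.centralizer_fittingSubgroup_le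
  have hHbF : Hb = F := le_antisymm (le_trans (fun a ha => Subgroup.mem_centralizer_iff.2
    fun f hf => (habb f (hFle hf) a ha).eq) hCF) hFle
  haveI hHbn : Hb.Normal := hHbF ▸ Cores.fittingSubgroup_normal
  refine ⟨?_, fun R hR hn => ?_⟩
  · have h1 : (Hb.comap π).Normal := hHbn.comap π
    rwa [hHb, Subgroup.comap_map_eq, hπ, QuotientGroup.ker_mk', sup_comm] at h1
  · have hRn : Hb ≤ normalizer ((R.map π : Subgroup (G ⧸ O)) : Set (G ⧸ O)) :=
      (Subgroup.map_mono hn).trans (Subgroup.le_normalizer_map π)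
    have hRb : R.map π ≤ normalizer (Hb : Set (G ⧸ O)) := by
      rw [Subgroup.normalizer_eq_top Hb]; exact le_top
    have hc := commute_of_normalizes hRb hRn
      (inf_eq_bot_of_pgroup_of_coprime (hR.map π) ((isPiNumber_pi hp).1 hHb'.1))
    have hle : R.map π ≤ F := le_trans (fun r hr => Subgroup.mem_centralizer_iff.2
      fun f hf => (hc r hr f (hFle hf)).eq.symm) hCF
    have hbot := eq_bot_of_pgroup_of_coprime (hR.map π)
      (hFcop.coprime_dvd_left (Subgroup.card_dvd_of_le hle))
    rwa [Subgroup.map_eq_bot_iff, hπ, QuotientGroup.ker_mk'] at hbot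

end Cfsg.Agent.H77.PPAb
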