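import Mathlib
import Cfsg.Agent.H77.PPAb.Basic
import Cfsg.Agent.Coprime.Hall
import Cfsg.Agent.Coprime.Generation
import Cfsg.Agent.Fusion.Basic
import Cfsg.Agent.H68.SylowCentralizer

/-!
# A simple group all whose `p'`-subgroups are abelian: the strongly embedded local subgroup
-/

set_option autoImplicit false
set_option linter.style.haveILetI false
set_option linter.unusedSectionVars false

namespace Cfsg.Agent.H77.PPAb

open Subgroup
open scoped Pointwise

universe u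

variable {G : Type u} [Group G] {p : ℕ}

/-- A minimal counterexample, with a Sylow `2`-subgroup and a maximal `p'`-subgroup above it. -/
structure Ctx (G : Type u) [Group G] (p : ℕ) where
  simple : IsSimpleGroup G
  nc : ¬ IsMulCommutative G
  solv : ∀ X : Subgroup G, X ≠ ⊤ → Group.IsSolvable X
  ab : ∀ K : Subgroup G, (Nat.card K).Coprime p → ∀ a ∈ K, ∀ b ∈ K, Commute a b
  five : 5 ≤ p
  even : 2 ∣ Nat.card G
  T : Sylow 2 G
  H : Subgroup G
  T_le : (T : Subgroup G) ≤ H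
  H_cop : (Nat.card H).Coprime p
  H_max : ∀ K : Subgroup G, (Nat.card K).Coprime p → H ≤ K → K = H

/-- `O_p(X)` as a subgroup of the ambient group. -/
noncomputable def op (p : ℕ) (X : Subgroup G) : Subgroup G := (Cfsg.pCore p X).map X.subtype

theorem op_le (X : Subgroup G) : op p X ≤ X := map_subtype_le _

theorem le_normalizer_op (X : Subgroup G) : X ≤ normalizer (op p X : Set G) := by
  have h := Subgroup.le_normalizer_map (H := Cfsg.pCore p X) X.subtype
  haveI : (Cfsg.pCore p X).Normal := Cfsg.pCore_normal p X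
  rw [Subgroup.normalizer_eq_top, ← MonoidHom.range_eq_map, range_subtype] at h
  exact h

section Finite

variable [Finite G] [hpF : Fact p.Prime] (c : Ctx G p)
include c

theorem Ctx.hp2 : p ≠ 2 := by have := c.five; omega

theorem Ctx.coprime_T : (Nat.card (c.T : Subgroup G)).Coprime p :=
  c.H_cop.coprime_dvd_left (Subgroup.card_dvd_of_le c.T_le)

theorem Ctx.T_comm : ∀ a ∈ (c.T : Subgroup G), ∀ b ∈ (c.T : Subgroup G), Commute a b :=
  fun a ha b hb => c.ab _ c.coprime_T a ha b hb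

theorem Ctx.ne_top_of_coprime {K : Subgroup G} (h : (Nat.card K).Coprime p) : K ≠ ⊤ := fun e =>
  c.nc ⟨⟨fun a b => c.ab K h a (e ▸ mem_top a) b (e ▸ mem_top b)⟩⟩

theorem Ctx.T_ne_bot : (c.T : Subgroup G) ≠ ⊥ := by
  haveI : Fact (Nat.Prime 2) := ⟨Nat.prime_two⟩
  exact c.T.ne_bot_of_dvd_card c.even

theorem Ctx.H_ne_bot : c.H ≠ ⊥ := fun h => c.T_ne_bot (le_bot_iff.1 (h ▸ c.T_le))

theorem Ctx.normal_eq_top {K : Subgroup G} [K.Normal] (h : K ≠ ⊥) : K = ⊤ := by
  haveI := c.simple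
  exact (Subgroup.Normal.eq_bot_or_eq_top (inferInstance : K.Normal)).resolve_left h

theorem Ctx.normalizer_ne_top {K : Subgroup G} (hb : K ≠ ⊥) (ht : K ≠ ⊤) :
    normalizer (K : Set G) ≠ ⊤ := fun h => by
  haveI : K.Normal := normalizer_eq_top_iff.1 h
  exact ht (c.normal_eq_top hb)

theorem Ctx.centralizer_ne_top {x : G} (hx : x ≠ 1) : centralizer ({x} : Set G) ≠ ⊤ := fun h => by
  have hc : x ∈ Subgroup.center G := Subgroup.mem_center_iff.2 fun g =>
    (Subgroup.mem_centralizer_singleton_iff.1 (h ▸ mem_top g : g ∈ centralizer ({x} : Set G)))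
  have hne : Subgroup.center G ≠ ⊥ := fun hb => hx (Subgroup.mem_bot.1 (hb ▸ hc))
  exact c.nc ⟨⟨fun a b => (Subgroup.mem_center_iff.1
    ((c.normal_eq_top hne) ▸ mem_top b : b ∈ Subgroup.center G) a)⟩⟩

theorem Ctx.comm_H : ∀ a ∈ c.H, ∀ b ∈ c.H, Commute a b := c.ab _ c.H_cop

theorem Ctx.H_le_centralizer {x : G} (hx : x ∈ c.H) : c.H ≤ centralizer ({x} : Set G) :=
  fun _ hy => Subgroup.mem_centralizer_singleton_iff.2 (c.comm_H _ hy x hx).eq

theorem Ctx.hallOf {X : Subgroup G} (hX : X ≠ ⊤) {K : Subgroup G} (hKX : K ≤ X)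
    (hcop : (Nat.card K).Coprime p) (hmax : ∀ K' : Subgroup G, (Nat.card K').Coprime p → K ≤ K' → K' = K) :
    Cfsg.IsPiHall (pi p) (K.subgroupOf X) := by
  have hp : p.Prime := hpF.out
  haveI := c.solv X hX
  obtain ⟨K', hK', hle⟩ := (Hall.hallDom_of_isSolvable (pi p) X).exists_le (U := K.subgroupOf X)
    ((isPiNumber_pi hp).2 (by rwa [Nat.card_congr (subgroupOfEquivOfLe hKX).toEquiv]))
  have hc : (Nat.card (K'.map X.subtype)).Coprime p := by
    rw [Subgroup.card_map_of_injective X.subtype_injective]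
    exact (isPiNumber_pi hp).1 hK'.1
  have he := hmax _ hc (by
    rw [← map_subgroupOf_eq_of_le hKX]; exact Subgroup.map_mono hle)
  have : K' = K.subgroupOf X := by
    rw [← he, Subgroup.subgroupOf, Subgroup.comap_map_eq_self_of_injective X.subtype_injective]
  exact this ▸ hK'

theorem op_isPGroup (X : Subgroup G) : IsPGroup p (op p X) :=
  (Cores.pCore_isPGroup (p := p) (G := X)).map X.subtype

/-- In a proper subgroup above `H`, `p`-subgroups normalised by `H` lie in `O_p`. -/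
theorem Ctx.le_op {X : Subgroup G} (hX : X ≠ ⊤) (hHX : c.H ≤ X) {R : Subgroup G}
    (hR : IsPGroup p R) (hRX : R ≤ X) (hn : c.H ≤ normalizer (R : Set G)) : R ≤ op p X := by
  haveI := c.solv X hX
  have h := (solvable_structure (c.hallOf hX hHX c.H_cop c.H_max)
    (fun a ha b hb => Subtype.ext (c.comm_H a ha b hb).eq)).2 (R.subgroupOf X)
    (hR.comap_subtype (K := X)) (by
      intro a ha
      rw [Subgroup.mem_normalizer_iff]
      intro y
      simp only [Subgroup.mem_subgroupOf]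
      exact Subgroup.mem_normalizer_iff.1 (hn ha) y)
  rw [← map_subgroupOf_eq_of_le hRX]
  exact Subgroup.map_mono h

theorem Ctx.conj_mem_op_sup {X : Subgroup G} (hX : X ≠ ⊤) {K : Subgroup G} (hKX : K ≤ X)
    (hcop : (Nat.card K).Coprime p) (hHall : Cfsg.IsPiHall (pi p) (K.subgroupOf X)) :
    ∀ x ∈ X, ∀ y ∈ op p X ⊔ K, x * y * x⁻¹ ∈ op p X ⊔ K := by
  haveI := c.solv X hX
  have hn := (solvable_structure hHall (fun a ha b hb => Subtype.ext (c.ab K hcop a ha b hb).eq)).1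
  intro x hx y hy
  have e : op p X ⊔ K = (Cfsg.pCore p X ⊔ K.subgroupOf X).map X.subtype := by
    rw [Subgroup.map_sup, map_subgroupOf_eq_of_le hKX]; rfl
  rw [e] at hy ⊢
  obtain ⟨y', hy', rfl⟩ := hy
  exact ⟨⟨x, hx⟩ * y' * ⟨x, hx⟩⁻¹, hn.conj_mem y' hy' _, rfl⟩

/-- The `p`-subgroups normalised by `H`. -/
def Ctx.Inv (P : Subgroup G) : Prop := IsPGroup p P ∧ c.H ≤ normalizer (P : Set G)

theorem Ctx.inv_op {X : Subgroup G} (hHX : c.H ≤ X) : c.Inv (op p X) :=
  ⟨op_isPGroup c X, hHX.trans (le_normalizer_op X)⟩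

theorem Ctx.ne_top_of_pgroup {P : Subgroup G} (h : IsPGroup p P) : P ≠ ⊤ := by
  intro e
  obtain ⟨k, hk⟩ := IsPGroup.iff_card.1 h
  rw [e, Subgroup.card_top] at hk
  have h2 := c.even
  rw [hk] at h2
  exact c.hp2 ((Nat.prime_dvd_prime_iff_eq Nat.prime_two hpF.out).1
    (Nat.prime_two.dvd_of_dvd_pow h2)).symm

end Finite

/-! ### Fixed points on elementary abelian `2`-groups -/

/-- An involutive action splits: some nontrivial element is fixed or inverted. -/
theorem exists_eigen {P : Subgroup G} (e : G) {v : G} (hv : v ∈ P) (hv1 : v ≠ 1)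
    (heP : ∀ x ∈ P, e * x * e⁻¹ ∈ P) (he : e * e = 1) (hPc : ∀ x ∈ P, ∀ y ∈ P, Commute x y) :
    ∃ w ∈ P, w ≠ 1 ∧ (e * w * e⁻¹ = w ∨ e * w * e⁻¹ = w⁻¹) ∧
      ∀ f : G, (∀ x ∈ P, f * x * f⁻¹ ∈ P) → Commute e f →
        ((f * v * f⁻¹ = v → f * w * f⁻¹ = w) ∧ (f * v * f⁻¹ = v⁻¹ → f * w * f⁻¹ = w⁻¹)) := by
  have hee : e⁻¹ = e := inv_eq_of_mul_eq_one_right he
  by_cases h : v * (e * v * e⁻¹) = 1
  · exact ⟨v, hv, hv1, Or.inr (eq_inv_of_mul_eq_one_right h), fun f _ _ => ⟨id, id⟩⟩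
  refine ⟨v * (e * v * e⁻¹), mul_mem hv (heP v hv), h, Or.inl ?_, fun f _ hef => ?_⟩
  · have h1 : e * (v * (e * v * e⁻¹)) * e⁻¹ = (e * v * e⁻¹) * ((e * e) * v * (e * e)⁻¹) := by group
    rw [h1, he, one_mul, inv_one, mul_one]
    exact (hPc _ (heP v hv) v hv).eq
  · have hfe : ∀ z : G, f * (e * z * e⁻¹) * f⁻¹ = e * (f * z * f⁻¹) * e⁻¹ := by
      intro z
      calc f * (e * z * e⁻¹) * f⁻¹ = (f * e) * z * (f * e)⁻¹ := by group
        _ = _ := by rw [hef.eq.symm]; group
    have h1 : f * (v * (e * v * e⁻¹)) * f⁻¹ = (f * v * f⁻¹) * (e * (f * v * f⁻¹) * e⁻¹) := by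
      rw [← hfe]; group
    refine ⟨fun hh => by rw [h1, hh], fun hh => ?_⟩
    calc f * (v * (e * v * e⁻¹)) * f⁻¹ = v⁻¹ * (e * v * e⁻¹)⁻¹ := by rw [h1, hh]; group
      _ = (v * (e * v * e⁻¹))⁻¹ := by
        rw [(hPc _ (inv_mem hv) _ (inv_mem (heP v hv))).eq]; group

/-- A commuting family of involutions on an abelian group has a common eigenvector. -/
theorem exists_common_eigen [Finite G] {P A : Subgroup G} (hP : P ≠ ⊥)
    (hAP : ∀ a ∈ A, ∀ x ∈ P, a * x * a⁻¹ ∈ P) (hPc : ∀ x ∈ P, ∀ y ∈ P, Commute x y)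
    (hA : ∀ a ∈ A, a * a = 1) :
    ∃ v ∈ P, v ≠ 1 ∧ ∀ a ∈ A, a * v * a⁻¹ = v ∨ a * v * a⁻¹ = v⁻¹ := by
  classical
  have hAc : ∀ a ∈ A, ∀ b ∈ A, Commute a b := fun a ha b hb => by
    have h := hA _ (mul_mem ha hb)
    calc a * b = (a * b)⁻¹ := (inv_eq_of_mul_eq_one_right h).symm
      _ = b * a := by
        rw [mul_inv_rev, inv_eq_of_mul_eq_one_right (hA b hb),
          inv_eq_of_mul_eq_one_right (hA a ha)]
  haveI := Fintype.ofFinite G
  suffices ∀ s : Finset G, (∀ a ∈ s, a ∈ A) →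
      ∃ v ∈ P, v ≠ 1 ∧ ∀ a ∈ s, a * v * a⁻¹ = v ∨ a * v * a⁻¹ = v⁻¹ by
    obtain ⟨v, hv, hv1, hva⟩ := this (Finset.univ.filter (· ∈ A)) (by simp)
    exact ⟨v, hv, hv1, fun a ha => hva a (by simp [ha])⟩
  intro s
  induction s using Finset.induction_on with
  | empty =>
    intro _
    obtain ⟨v, hv, hv1⟩ := (Subgroup.bot_or_exists_ne_one P).resolve_left hP
    exact ⟨v, hv, hv1, by simp⟩
  | insert e s hes ih =>
    intro hs
    obtain ⟨v, hv, hv1, hva⟩ := ih fun a ha => hs a (Finset.mem_insert_of_mem ha)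
    have heA := hs e (Finset.mem_insert_self e s)
    obtain ⟨w, hw, hw1, hwe, hwf⟩ := exists_eigen e hv hv1 (hAP e heA) (hA e heA) hPc
    refine ⟨w, hw, hw1, fun a ha => ?_⟩
    rcases Finset.mem_insert.1 ha with rfl | ha
    · exact hwe
    · have haA := hs a (Finset.mem_insert_of_mem ha)
      obtain ⟨f1, f2⟩ := hwf a (hAP a haA) (hAc e heA a haA)
      exact (hva a ha).imp f1 f2

/-- The fixed part of an elementary abelian `2`-group has index at most two on a common eigenvector. -/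
theorem card_le_two_mul_fixed [Finite G] {A : Subgroup G} {v : G}
    (hv : ∀ a ∈ A, a * v * a⁻¹ = v ∨ a * v * a⁻¹ = v⁻¹) :
    Nat.card A ≤ 2 * Nat.card ↥(A ⊓ centralizer ({v} : Set G)) := by
  classical
  set F := A ⊓ centralizer ({v} : Set G) with hF
  have hmem : ∀ a ∈ A, a * v * a⁻¹ = v → a ∈ F := fun a ha h =>
    Subgroup.mem_inf.2 ⟨ha, Subgroup.mem_centralizer_singleton_iff.2 (by
      calc a * v = a * v * a⁻¹ * a := by group
        _ = v * a := by rw [h])⟩
  by_cases hall : ∀ a ∈ A, a * v * a⁻¹ = v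
  · have : A ≤ F := fun a ha => hmem a ha (hall a ha)
    calc Nat.card A ≤ Nat.card F := Subgroup.card_le_of_le this
      _ ≤ 2 * Nat.card F := by omega
  push Not at hall
  obtain ⟨a0, ha0, ha0'⟩ := hall
  have ha0v := (hv a0 ha0).resolve_left ha0'
  have hsub : (A : Set G) ⊆ (F : Set G) ∪ (fun x => a0 * x) '' (F : Set G) := by
    intro a ha
    by_cases h : a * v * a⁻¹ = v
    · exact Or.inl (hmem a ha h)
    · refine Or.inr ⟨a0⁻¹ * a, hmem _ (mul_mem (inv_mem ha0) ha) ?_, by group⟩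
      have h' := (hv a ha).resolve_left h
      calc a0⁻¹ * a * v * (a0⁻¹ * a)⁻¹ = a0⁻¹ * (a * v * a⁻¹) * a0 := by group
        _ = a0⁻¹ * (a0 * v * a0⁻¹) * a0 := by rw [h', ha0v]
        _ = v := by group
  calc Nat.card A = (A : Set G).ncard := (Nat.card_coe_set_eq _)
    _ ≤ ((F : Set G) ∪ (fun x => a0 * x) '' (F : Set G)).ncard :=
        Set.ncard_le_ncard hsub (Set.toFinite _)
    _ ≤ (F : Set G).ncard + ((fun x => a0 * x) '' (F : Set G)).ncard := Set.ncard_union_le _ _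
    _ ≤ (F : Set G).ncard + (F : Set G).ncard := Nat.add_le_add_left (Set.ncard_image_le (Set.toFinite _)) _
    _ = 2 * Nat.card F := by rw [← Nat.card_coe_set_eq, two_mul]; rfl

/-- Elements acting as a `p`-power automorphism: the moved part is divisible by `p`. -/
theorem card_modEq_fixed [Finite G] [Fact p.Prime] {A : Subgroup G} {g : G}
    (hg : g ∈ normalizer (A : Set G)) {k : ℕ} (hk : ∀ a ∈ A, Commute (g ^ p ^ k) a) :
    Nat.card A ≡ Nat.card ↥(A ⊓ centralizer ({g} : Set G)) [MOD p] := by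
  let φ : Equiv.Perm A :=
    { toFun := fun a => ⟨g * a * g⁻¹, (Subgroup.mem_normalizer_iff.1 hg a).1 a.2⟩
      invFun := fun a => ⟨g⁻¹ * a * g, by
        have := (Subgroup.mem_normalizer_iff.1 (inv_mem hg) a).1 a.2
        simpa using this⟩
      left_inv := fun a => Subtype.ext (by simp [mul_assoc])
      right_inv := fun a => Subtype.ext (by simp [mul_assoc]) }
  have hφ : ∀ (n : ℕ) (a : A), (((φ ^ n) a : A) : G) = g ^ n * a * (g ^ n)⁻¹ := by
    intro n
    induction n with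
    | zero => intro a; simp
    | succ n ih =>
      intro a
      rw [pow_succ', Equiv.Perm.mul_apply]
      show g * _ * g⁻¹ = _
      rw [ih, pow_succ']
      group
  have hp : φ ^ p ^ k = 1 := by
    ext a
    rw [hφ, Equiv.Perm.one_apply, (hk a a.2).eq, mul_assoc, mul_inv_cancel, mul_one]
  have hZ : IsPGroup p (Subgroup.zpowers φ) := by
    intro x
    obtain ⟨i, hi⟩ := x.2
    refine ⟨k, Subtype.ext ?_⟩
    rw [SubmonoidClass.coe_pow, ← hi]
    show (φ ^ i) ^ p ^ k = 1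
    rw [← zpow_natCast, ← zpow_mul, mul_comm, zpow_mul, zpow_natCast, hp, one_zpow]
  have h := hZ.card_modEq_card_fixedPoints (α := A)
  have e : MulAction.fixedPoints (Subgroup.zpowers φ) A ≃ ↥(A ⊓ centralizer ({g} : Set G)) :=
    { toFun := fun a => ⟨a.1.1, Subgroup.mem_inf.2 ⟨a.1.2, by
        rw [Subgroup.mem_centralizer_singleton_iff]
        have h1 : g * (a.1 : G) * g⁻¹ = a.1 :=
          congrArg Subtype.val (a.2 ⟨φ, Subgroup.mem_zpowers φ⟩)
        calc (a.1 : G) * g = g * (a.1 : G) * g⁻¹ * g := by rw [h1]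
          _ = g * a.1 := by group⟩⟩
      invFun := fun a => ⟨⟨a.1, (Subgroup.mem_inf.1 a.2).1⟩, by
        rintro ⟨x, hx⟩
        have hfix : φ ∈ MulAction.stabilizer (Equiv.Perm A)
            (⟨a.1, (Subgroup.mem_inf.1 a.2).1⟩ : A) := by
          rw [MulAction.mem_stabilizer_iff]
          apply Subtype.ext
          show g * a.1 * g⁻¹ = a.1
          rw [← Subgroup.mem_centralizer_singleton_iff.1 (Subgroup.mem_inf.1 a.2).2,
            mul_inv_cancel_right]
        exact (Subgroup.zpowers_le.2 hfix) hx⟩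
      left_inv := fun a => rfl
      right_inv := fun a => rfl }
  rwa [Nat.card_congr e] at h

section Finite

variable [Finite G] [hpF : Fact p.Prime] (c : Ctx G p)
include c

/-- The elementary abelian subgroup `Ω₁(T)`. -/
def Ctx.E : Subgroup G where
  carrier := {x | x ∈ (c.T : Subgroup G) ∧ x * x = 1}
  one_mem' := ⟨one_mem _, mul_one 1⟩
  mul_mem' := fun {a b} ha hb => ⟨mul_mem ha.1 hb.1, by
    calc a * b * (a * b) = a * (b * a) * b := by group
      _ = (a * a) * (b * b) := by rw [(c.T_comm b hb.1 a ha.1).eq]; group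
      _ = 1 := by rw [ha.2, hb.2, mul_one]⟩
  inv_mem' := fun {a} ha => ⟨inv_mem ha.1, by rw [← mul_inv_rev, ha.2, inv_one]⟩

theorem Ctx.E_le_T : c.E ≤ (c.T : Subgroup G) := fun _ h => h.1

theorem Ctx.E_le_H : c.E ≤ c.H := c.E_le_T.trans c.T_le

theorem Ctx.E_sq {x : G} (h : x ∈ c.E) : x * x = 1 := h.2

theorem Ctx.H_sq_mem {x : G} (hx : x ∈ c.H) (h2 : x * x = 1) : x ∈ c.E := by
  refine ⟨?_, h2⟩
  haveI : Fact (Nat.Prime 2) := ⟨Nat.prime_two⟩
  set T' := Subgroup.zpowers x ⊔ (c.T : Subgroup G)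
  have hn : Subgroup.zpowers x ≤ normalizer ((c.T : Subgroup G) : Set G) := by
    rw [Subgroup.zpowers_le, Subgroup.mem_normalizer_iff]
    intro y
    constructor <;> intro hy
    · rwa [(c.comm_H x hx y (c.T_le hy)).eq, mul_inv_cancel_right]
    · have h1 : x⁻¹ * (x * y * x⁻¹) = (x * y * x⁻¹) * x⁻¹ :=
        (c.comm_H x⁻¹ (inv_mem hx) _ (c.T_le hy)).eq
      have : y = x * y * x⁻¹ := by
        calc y = x⁻¹ * (x * y * x⁻¹) * x := by group
          _ = _ := by rw [h1]; group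
      rwa [this]
  have hT : IsPGroup 2 ↥T' :=
    IsPGroup.to_sup_of_normal_right' (hH := IsPGroup.of_card_dvd_pow (n := 1) (by
      rw [Nat.card_zpowers, pow_one]
      exact orderOf_dvd_of_pow_eq_one (by rw [pow_two, h2]))) (hK := c.T.isPGroup') hn
  rw [← c.T.is_maximal' hT le_sup_right]
  exact Subgroup.mem_sup_left (Subgroup.mem_zpowers x)

/-- An element of order prime to `p` normalising a `p'`-subgroup centralises it. -/
theorem Ctx.centralises_of_coprime {A : Subgroup G} (hA : (Nat.card A).Coprime p) {g : G}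
    (hg : g ∈ normalizer (A : Set G)) (ho : (orderOf g).Coprime p) : ∀ a ∈ A, Commute g a := by
  intro a ha
  exact c.ab _ (coprime_card_sup (Subgroup.zpowers_le.2 hg) (by rwa [Nat.card_zpowers]) hA) g
    (Subgroup.mem_sup_left (Subgroup.mem_zpowers g)) a (Subgroup.mem_sup_right ha)

/-- Some `p`-power of an element normalising a `p'`-subgroup centralises it. -/
theorem Ctx.exists_pow_centralises {A : Subgroup G} (hA : (Nat.card A).Coprime p) {g : G}
    (hg : g ∈ normalizer (A : Set G)) : ∃ k : ℕ, ∀ a ∈ A, Commute (g ^ p ^ k) a := by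
  obtain ⟨k, m, hm, hn⟩ := Nat.exists_eq_pow_mul_and_not_dvd (orderOf_pos g).ne' p hpF.out.ne_one
  refine ⟨k, c.centralises_of_coprime hA (pow_mem hg _) ?_⟩
  have ho : orderOf (g ^ p ^ k) = m := by
    rw [orderOf_pow' g (pow_ne_zero _ hpF.out.ne_zero), hn,
      Nat.gcd_eq_right (Dvd.intro m rfl), Nat.mul_div_cancel_left _ (pow_pos hpF.out.pos _)]
  rw [ho]
  exact ((hpF.out.coprime_iff_not_dvd).2 hm).symm

theorem Ctx.coprime_E : (Nat.card c.E).Coprime p :=
  c.coprime_T.coprime_dvd_left (Subgroup.card_dvd_of_le c.E_le_T)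

theorem Ctx.card_E_pow : ∃ r : ℕ, Nat.card c.E = 2 ^ r := by
  haveI : Fact (Nat.Prime 2) := ⟨Nat.prime_two⟩
  exact IsPGroup.iff_card.1 (c.T.isPGroup'.to_le c.E_le_T)

theorem Ctx.eight_le_card_E : 8 ≤ Nat.card c.E := by
  classical
  haveI : Fact (Nat.Prime 2) := ⟨Nat.prime_two⟩
  haveI := c.simple
  obtain ⟨g, hgN, hgC⟩ := SetLike.not_le_iff_exists.1 (H68.burnside_not_abelian c.nc c.T c.even)
  obtain ⟨k, hk⟩ := c.exists_pow_centralises c.coprime_T hgN
  -- some element of `E` is moved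
  have hmoved : ∃ e ∈ c.E, g * e * g⁻¹ ≠ e := by
    by_contra hall
    push Not at hall
    apply hgC
    rw [Subgroup.mem_centralizer_iff]
    suffices h : ∀ n : ℕ, ∀ x ∈ (c.T : Subgroup G), orderOf x = n → g * x * g⁻¹ = x by
      intro x hx
      calc x * g = g * x * g⁻¹ * g := by rw [h _ x hx rfl]
        _ = g * x := by group
    intro n
    induction n using Nat.strong_induction_on with
    | _ n ih =>
      intro x hx hn
      have hTn := Subgroup.mem_normalizer_iff.1 hgN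
      by_cases hx2 : x * x = 1
      · exact hall x ⟨hx, hx2⟩
      obtain ⟨a, ha⟩ := c.T.isPGroup' ⟨x, hx⟩
      have hxa : x ^ 2 ^ a = 1 := congrArg Subtype.val ha
      have h2 : orderOf (x * x) < n := by
        rw [← pow_two, orderOf_pow' x two_ne_zero, hn]
        have hdvd : 2 ∣ n := by
          obtain ⟨i, -, hi⟩ := (Nat.dvd_prime_pow Nat.prime_two).1 (orderOf_dvd_of_pow_eq_one hxa)
          rw [← hn, hi]
          refine dvd_pow_self 2 fun h0 => hx2 ?_
          rw [h0, pow_zero, orderOf_eq_one_iff] at hi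
          rw [hi, one_mul]
        rw [Nat.gcd_eq_right hdvd]
        exact Nat.div_lt_self (hn ▸ orderOf_pos x) one_lt_two
      have hsq := ih _ h2 (x * x) (mul_mem hx hx) rfl
      set d := g * x * g⁻¹ * x⁻¹ with hd
      have hdT : d ∈ (c.T : Subgroup G) := mul_mem ((hTn x).1 hx) (inv_mem hx)
      have hdE : d ∈ c.E := ⟨hdT, by
        rw [hd]
        calc g * x * g⁻¹ * x⁻¹ * (g * x * g⁻¹ * x⁻¹)
            = g * x * g⁻¹ * (x⁻¹ * (g * x * g⁻¹)) * x⁻¹ := by group
          _ = g * (x * x) * g⁻¹ * (x * x)⁻¹ := by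
            rw [(c.T_comm _ (inv_mem hx) _ ((hTn x).1 hx)).eq]; group
          _ = 1 := by rw [hsq, mul_inv_cancel]⟩
      have hdfix := hall d hdE
      have hstep : ∀ j : ℕ, g ^ j * x * (g ^ j)⁻¹ = d ^ j * x := by
        intro j
        induction j with
        | zero => simp
        | succ j ihj =>
          have hdj : g * d ^ j * g⁻¹ = d ^ j := by rw [← conj_pow, hdfix]
          calc g ^ (j + 1) * x * (g ^ (j + 1))⁻¹ = g * (g ^ j * x * (g ^ j)⁻¹) * g⁻¹ := by
                rw [pow_succ']; group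
            _ = (g * d ^ j * g⁻¹) * (g * x * g⁻¹) := by rw [ihj]; group
            _ = d ^ (j + 1) * x := by rw [hdj, pow_succ, hd]; group
      have h1 := hstep (p ^ k)
      rw [(hk x hx).eq, mul_inv_cancel_right, right_eq_mul] at h1
      have hd1 : d = 1 := by
        obtain ⟨q, hq⟩ := (hpF.out.odd_of_ne_two c.hp2).pow (n := k)
        rw [hq, pow_succ, pow_mul, pow_two, c.E_sq hdE, one_pow, one_mul] at h1
        exact h1
      calc g * x * g⁻¹ = d * x := by rw [hd]; group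
        _ = x := by rw [hd1, one_mul]
  obtain ⟨e, he, hge⟩ := hmoved
  obtain ⟨r, hr⟩ := c.card_E_pow
  -- `g` normalises `E`
  have hgE : g ∈ normalizer (c.E : Set G) := by
    rw [Subgroup.mem_normalizer_iff]
    intro x
    have h1 : (g * x * g⁻¹) * (g * x * g⁻¹) = g * (x * x) * g⁻¹ := by group
    refine ⟨fun hx => ⟨(Subgroup.mem_normalizer_iff.1 hgN x).1 hx.1, by rw [h1, hx.2]; group⟩,
      fun hx => ⟨(Subgroup.mem_normalizer_iff.1 hgN x).2 hx.1, ?_⟩⟩
    have h2 := hx.2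
    rw [h1, conj_eq_one_iff] at h2
    exact h2
  have hmod := card_modEq_fixed hgE (p := p) (k := k) fun a ha => hk a ha.1
  set F := c.E ⊓ centralizer ({g} : Set G) with hF
  obtain ⟨f, -, hf⟩ := (Nat.dvd_prime_pow Nat.prime_two).1
    (hr ▸ Subgroup.card_dvd_of_le (inf_le_left : F ≤ c.E))
  have hlt : f < r := by
    have hFE : F < c.E := lt_of_le_of_ne inf_le_left fun h => hge (by
      have := Subgroup.mem_centralizer_singleton_iff.1 (Subgroup.mem_inf.1 (h.symm ▸ he : e ∈ F)).2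
      rw [← this, mul_inv_cancel_right])
    have hc : Nat.card F < Nat.card c.E := by
      refine lt_of_le_of_ne (Subgroup.card_le_of_le hFE.le) fun h => hFE.ne ?_
      exact Subgroup.eq_of_le_of_card_ge hFE.le h.ge
    rw [hr, hf] at hc
    exact (Nat.pow_lt_pow_iff_right one_lt_two).1 hc
  rw [hr, hf] at hmod
  have hdvd : p ∣ 2 ^ r - 2 ^ f :=
    (Nat.modEq_iff_dvd' (Nat.pow_le_pow_right two_pos hlt.le)).1 hmod.symm
  rw [show 2 ^ r - 2 ^ f = 2 ^ f * (2 ^ (r - f) - 1) by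
    rw [Nat.mul_sub_one, ← pow_add, Nat.add_sub_of_le hlt.le]] at hdvd
  have hdvd' : p ∣ 2 ^ (r - f) - 1 := (hpF.out.dvd_mul.1 hdvd).resolve_left fun h =>
    c.hp2 ((Nat.prime_dvd_prime_iff_eq hpF.out Nat.prime_two).1 (hpF.out.dvd_of_dvd_pow h))
  have hpos : 0 < 2 ^ (r - f) - 1 := by
    have : 2 ≤ 2 ^ (r - f) := Nat.le_self_pow (by omega) 2
    omega
  have hle := Nat.le_of_dvd hpos hdvd'
  have h5 := c.five
  have : 3 ≤ r := by
    by_contra h
    have : 2 ^ (r - f) ≤ 4 := (Nat.pow_le_pow_right two_pos (by omega : r - f ≤ 2))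
    omega
  calc 8 = 2 ^ 3 := rfl
    _ ≤ 2 ^ r := Nat.pow_le_pow_right two_pos this
    _ = Nat.card c.E := hr.symm

/-- There is a largest `p`-subgroup normalised by `H`. -/
theorem Ctx.exists_top_inv : ∃ W, c.Inv W ∧ ∀ P, c.Inv P → P ≤ W := by
  classical
  set U : Set (Subgroup G) := {P | c.Inv P}
  have hbot : (⊥ : Subgroup G) ∈ U := ⟨IsPGroup.of_bot, fun _ _ => by
    rw [Subgroup.normalizer_eq_top (⊥ : Subgroup G)]; trivial⟩
  have habove : ∀ P ∈ U, ∃ P', Maximal (· ∈ U) P' ∧ P ≤ P' := fun P hP => by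
    obtain ⟨P', h1, h2⟩ := (Set.toFinite U).exists_le_maximal hP
    exact ⟨P', h2, h1⟩
  suffices huniq : ∀ P₁ P₂, Maximal (· ∈ U) P₁ → Maximal (· ∈ U) P₂ → P₁ = P₂ by
    obtain ⟨W, hW, -⟩ := habove ⊥ hbot
    refine ⟨W, hW.prop, fun P hP => ?_⟩
    obtain ⟨P', hP', hle⟩ := habove P hP
    exact huniq P' W hP' hW ▸ hle
  by_contra hcon
  push Not at hcon
  obtain ⟨Q₁, Q₂, hQ₁, hQ₂, hne⟩ := hcon
  let S : Set (Subgroup G × Subgroup G) :=
    {x | Maximal (· ∈ U) x.1 ∧ Maximal (· ∈ U) x.2 ∧ x.1 ≠ x.2}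
  obtain ⟨⟨P₁, P₂⟩, ⟨hP₁, hP₂, h12⟩, hbest⟩ := Set.exists_max_image S
    (fun x => Nat.card ↥(x.1 ⊓ x.2)) (Set.toFinite _) ⟨(Q₁, Q₂), hQ₁, hQ₂, hne⟩
  set R := P₁ ⊓ P₂ with hRdef
  have hRH : c.H ≤ normalizer (R : Set G) := fun h hh => by
    rw [Subgroup.mem_normalizer_iff]
    intro y
    simp only [hRdef, Subgroup.mem_inf]
    exact and_congr (Subgroup.mem_normalizer_iff.1 (hP₁.prop.2 hh) y)
      (Subgroup.mem_normalizer_iff.1 (hP₂.prop.2 hh) y)
  have step : ∀ P₃, Maximal (· ∈ U) P₃ → ∀ P', Maximal (· ∈ U) P' →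
      Nat.card R < Nat.card ↥(P' ⊓ P₃) → P' = P₃ := by
    intro P₃ h3 P' h' hlt
    by_contra hne'
    exact absurd (hbest (P', P₃) ⟨h', h3, hne'⟩) (not_le.2 hlt)
  by_cases hR : R = ⊥
  · -- trivial intersections: meet through a centraliser
    have hfix : ∀ P, Maximal (· ∈ U) P → P ≠ ⊥ →
        ∃ v ∈ P, v ≠ 1 ∧ Nat.card c.E ≤ 2 * Nat.card ↥(c.E ⊓ centralizer ({v} : Set G)) := by
      intro P hP hPb
      haveI : Nontrivial P := (Subgroup.nontrivial_iff_ne_bot P).2 hPb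
      set Z := (Subgroup.center P).map P.subtype with hZ
      have hZne : Z ≠ ⊥ := by
        rw [hZ, ne_eq, Subgroup.map_eq_bot_iff_of_injective _ P.subtype_injective]
        haveI := hP.prop.1.center_nontrivial
        exact (Subgroup.nontrivial_iff_ne_bot _).1 inferInstance
      have hn : normalizer (P : Set G) ≤ normalizer (Z : Set G) := by
        intro g hg
        rw [Subgroup.mem_normalizer_iff]
        have hmem : ∀ x : G, x ∈ Z ↔ x ∈ P ∧ ∀ y ∈ P, y * x = x * y := fun x => by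
          refine ⟨?_, fun hx => ⟨⟨x, hx.1⟩, Subgroup.mem_center_iff.2 fun y =>
            Subtype.ext (hx.2 y y.2), rfl⟩⟩
          rintro ⟨x', hx', rfl⟩
          exact ⟨x'.2, fun y hy => congrArg Subtype.val (Subgroup.mem_center_iff.1 hx' ⟨y, hy⟩)⟩
        intro x
        have hgi := fun y => Subgroup.mem_normalizer_iff.1 hg y
        rw [hmem, hmem, ← hgi x]
        refine and_congr_right fun hx => ⟨fun h y hy => ?_, fun h y hy => ?_⟩
        · have hy' : g⁻¹ * y * g ∈ P := (hgi _).2 (by simpa [mul_assoc] using hy)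
          calc y * (g * x * g⁻¹) = g * ((g⁻¹ * y * g) * x) * g⁻¹ := by group
            _ = g * x * g⁻¹ * y := by rw [h _ hy']; group
        · have h' := h _ ((hgi y).1 hy)
          calc y * x = g⁻¹ * ((g * y * g⁻¹) * (g * x * g⁻¹)) * g := by group
            _ = x * y := by rw [h']; group
      obtain ⟨v, hv, hv1, hva⟩ := exists_common_eigen (A := c.E) hZne
        (fun a ha x hx => (Subgroup.mem_normalizer_iff.1 (hn (hP.prop.2 (c.E_le_H ha))) x).1 hx)
        (by
          rintro _ ⟨x, hx, rfl⟩ _ ⟨y, hy, rfl⟩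
          exact Commute.map (Subgroup.mem_center_iff.1 hy x) P.subtype)
        (fun a ha => c.E_sq ha)
      exact ⟨v, Subgroup.map_subtype_le _ hv, hv1, card_le_two_mul_fixed hva⟩
    have hb : ∀ P, Maximal (· ∈ U) P → P = ⊥ → ∀ P', Maximal (· ∈ U) P' → P' = ⊥ :=
      fun P hP hPb P' hP' => le_bot_iff.1 (hP.2 hP'.prop (hPb ▸ bot_le) |>.trans_eq hPb)
    have hne1 : P₁ ≠ ⊥ := fun h => h12 (h.trans (hb P₁ hP₁ h P₂ hP₂).symm)
    have hne2 : P₂ ≠ ⊥ := fun h => h12 ((hb P₂ hP₂ h P₁ hP₁).trans h.symm)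
    obtain ⟨v₁, hv₁, hv₁1, hF₁⟩ := hfix P₁ hP₁ hne1
    obtain ⟨v₂, hv₂, hv₂1, hF₂⟩ := hfix P₂ hP₂ hne2
    set F₁ := c.E ⊓ centralizer ({v₁} : Set G)
    set F₂ := c.E ⊓ centralizer ({v₂} : Set G)
    obtain ⟨t, ht, ht1⟩ : ∃ t ∈ F₁ ⊓ F₂, t ≠ (1 : G) := by
      by_contra hno
      push Not at hno
      have hinj : Function.Injective (fun x : F₁ × F₂ =>
          (⟨(x.1 : G) * x.2, mul_mem (Subgroup.mem_inf.1 x.1.2).1 (Subgroup.mem_inf.1 x.2.2).1⟩ :
            c.E)) := by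
        intro a b hab
        have h : (a.1 : G) * a.2 = b.1 * b.2 := congrArg Subtype.val hab
        have h1 : (b.1 : G)⁻¹ * a.1 = (b.2 : G) * (a.2 : G)⁻¹ := by
          calc (b.1 : G)⁻¹ * a.1 = (b.1 : G)⁻¹ * ((a.1 : G) * a.2) * (a.2 : G)⁻¹ := by group
            _ = _ := by rw [h]; group
        have h2 := hno _ (Subgroup.mem_inf.2 ⟨mul_mem (inv_mem b.1.2) a.1.2,
          h1.symm ▸ mul_mem b.2.2 (inv_mem a.2.2)⟩)
        have e1 : (a.1 : G) = b.1 := (inv_mul_eq_one.1 h2).symm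
        have e2 : (a.2 : G) = b.2 := by rw [e1] at h; exact mul_left_cancel h
        exact Prod.ext (Subtype.ext e1) (Subtype.ext e2)
      have h1 := Nat.card_le_card_of_injective _ hinj
      rw [Nat.card_prod] at h1
      have h8 := c.eight_le_card_E
      nlinarith
    have ht' := Subgroup.mem_inf.1 ht
    have hX := c.centralizer_ne_top ht1
    set X := centralizer ({t} : Set G)
    have htE : t ∈ c.E := (Subgroup.mem_inf.1 ht'.1).1
    have hHX : c.H ≤ X := c.H_le_centralizer (c.E_le_H htE)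
    obtain ⟨P₃, hP₃, hle⟩ := habove _ (c.inv_op hHX)
    have key : ∀ P, Maximal (· ∈ U) P → ∀ v ∈ P, v ≠ 1 →
        t ∈ centralizer ({v} : Set G) → P = P₃ := by
      intro P hP v hv hv1 htv
      refine step P₃ hP₃ P hP ?_
      rw [hR, Subgroup.card_bot]
      have hvX : v ∈ X := Subgroup.mem_centralizer_singleton_iff.2
        (Subgroup.mem_centralizer_singleton_iff.1 htv).symm
      have hvop : v ∈ op p X := c.le_op hX hHX (hP.prop.1.to_le inf_le_left) inf_le_right
        (fun h hh => by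
          rw [Subgroup.mem_normalizer_iff]
          intro y
          simp only [Subgroup.mem_inf]
          exact and_congr (Subgroup.mem_normalizer_iff.1 (hP.prop.2 hh) y)
            (Subgroup.mem_normalizer_iff.1 (le_normalizer (hHX hh)) y))
        (Subgroup.mem_inf.2 ⟨hv, hvX⟩)
      haveI : Nontrivial ↥(P ⊓ P₃) := (Subgroup.nontrivial_iff_ne_bot _).2 fun h =>
        hv1 (Subgroup.mem_bot.1 (h ▸ Subgroup.mem_inf.2 ⟨hv, hle hvop⟩))
      exact Finite.one_lt_card
    exact h12 ((key P₁ hP₁ v₁ hv₁ hv₁1 (Subgroup.mem_inf.1 ht'.1).2).trans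
      (key P₂ hP₂ v₂ hv₂ hv₂1 (Subgroup.mem_inf.1 ht'.2).2).symm)
  · have hX := c.normalizer_ne_top hR (c.ne_top_of_pgroup (hP₁.prop.1.to_le inf_le_left))
    set X := normalizer (R : Set G)
    obtain ⟨P₃, hP₃, hle⟩ := habove _ (c.inv_op (X := X) hRH)
    have key : ∀ P, Maximal (· ∈ U) P → R < P → P = P₃ := by
      intro P hP hRP
      refine step P₃ hP₃ P hP ?_
      haveI : Group.IsNilpotent P := hP.prop.1.isNilpotent
      have hlt : R.subgroupOf P < normalizer ((R.subgroupOf P : Subgroup P) : Set P) :=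
        Group.normalizerCondition_of_isNilpotent _ (lt_top_iff_ne_top.2 fun h => hRP.not_ge
          (Subgroup.subgroupOf_eq_top.1 h))
      obtain ⟨y, hy, hyR⟩ := SetLike.exists_of_lt hlt
      have hyX : (y : G) ∈ X := by
        rw [Subgroup.mem_normalizer_iff]
        intro z
        by_cases hz : z ∈ P
        · exact Subgroup.mem_normalizer_iff.1 hy ⟨z, hz⟩
        · refine ⟨fun h => absurd (hRP.le h) hz, fun h => absurd ?_ hz⟩
          have := mul_mem (mul_mem (inv_mem y.2) (hRP.le h)) y.2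
          simpa [mul_assoc] using this
      have hyop : (y : G) ∈ op p X := c.le_op hX hRH (hP.prop.1.to_le inf_le_left) inf_le_right
        (fun h hh => by
          rw [Subgroup.mem_normalizer_iff]
          intro w
          simp only [Subgroup.mem_inf]
          exact and_congr (Subgroup.mem_normalizer_iff.1 (hP.prop.2 hh) w)
            (Subgroup.mem_normalizer_iff.1 (le_normalizer (hRH hh)) w))
        (Subgroup.mem_inf.2 ⟨y.2, hyX⟩)
      have hRle : R ≤ P ⊓ P₃ := le_inf hRP.le ((c.le_op hX hRH (hP₁.prop.1.to_le inf_le_left)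
        le_normalizer hRH).trans hle)
      refine lt_of_le_of_ne (Subgroup.card_le_of_le hRle) fun h => hyR ?_
      rw [Subgroup.eq_of_le_of_card_ge hRle h.ge]
      exact Subgroup.mem_subgroupOf.2 (Subgroup.mem_inf.2 ⟨y.2, hle hyop⟩)
    have hlt1 : R < P₁ := lt_of_le_of_ne inf_le_left fun h =>
      h12 (le_antisymm (h ▸ inf_le_right) (hP₁.2 hP₂.prop (h ▸ inf_le_right)))
    have hlt2 : R < P₂ := lt_of_le_of_ne inf_le_right fun h =>
      h12 (le_antisymm (hP₂.2 hP₁.prop (h ▸ inf_le_left)) (h ▸ inf_le_left))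
    exact h12 ((key P₁ hP₁ hlt1).trans (key P₂ hP₂ hlt2).symm)

end Finite

end Cfsg.Agent.H77.PPAb
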