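import Mathlib
import Cfsg.Agent.H77.PPAb.Setting
import Cfsg.Agent.S3370

/-!
# A simple group all whose `p'`-subgroups are abelian: local structure around `H`

The largest `H`-invariant `p`-subgroup gives the unique maximal subgroup above `H`; it contains
the centralisers of its involutions, so there is one class of involutions, and the normaliser
of a Sylow `2`-subgroup is transitive on its involutions.
-/

set_option autoImplicit false
set_option linter.style.haveILetI false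
set_option linter.unusedSectionVars false

namespace Cfsg.Agent.H77.PPAb

open Subgroup
open scoped Pointwise

universe u

variable {G : Type u} [Group G] {p : ℕ} [Finite G] [hpF : Fact p.Prime] (c : Ctx G p)
include c

/-- The largest `p`-subgroup normalised by `H`. -/
noncomputable def Ctx.W : Subgroup G := c.exists_top_inv.choose

theorem Ctx.W_inv : c.Inv c.W := c.exists_top_inv.choose_spec.1

theorem Ctx.le_W {P : Subgroup G} (h : c.Inv P) : P ≤ c.W := c.exists_top_inv.choose_spec.2 P h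

open scoped Classical in
/-- The maximal subgroup above `H`. -/
noncomputable def Ctx.M : Subgroup G :=
  if c.W = ⊥ then normalizer (c.H : Set G) else normalizer (c.W : Set G)

theorem Ctx.H_le_normalizer {A : Subgroup G} (hA : A ≤ c.H) : c.H ≤ normalizer (A : Set G) := by
  intro h hh
  rw [Subgroup.mem_normalizer_iff]
  intro y
  constructor <;> intro hy
  · rwa [(c.comm_H h hh y (hA hy)).eq, mul_inv_cancel_right]
  · have h1 : h⁻¹ * (h * y * h⁻¹) = (h * y * h⁻¹) * h⁻¹ :=
      (c.comm_H h⁻¹ (inv_mem hh) _ (hA hy)).eq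
    have : y = h * y * h⁻¹ := by
      calc y = h⁻¹ * (h * y * h⁻¹) * h := by group
        _ = _ := by rw [h1]; group
    rwa [this]

theorem Ctx.normalizer_H_le_normalizer_W :
    normalizer (c.H : Set G) ≤ normalizer (c.W : Set G) := by
  intro g hg
  suffices key : ∀ g' ∈ normalizer (c.H : Set G), ∀ w ∈ c.W, g' * w * g'⁻¹ ∈ c.W by
    rw [Subgroup.mem_normalizer_iff]
    refine fun w => ⟨key g hg w, fun h => ?_⟩
    simpa [mul_assoc] using key g⁻¹ (inv_mem hg) _ h
  intro g' hg' w hw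
  refine c.le_W (P := c.W.map (MulAut.conj g').toMonoidHom) ⟨c.W_inv.1.map _, ?_⟩ ⟨w, hw, rfl⟩
  intro h hh
  have h1 : g'⁻¹ * h * g' ∈ c.H :=
    (Subgroup.mem_normalizer_iff.1 hg' _).2 (by simpa [mul_assoc] using hh)
  have h2 := (Subgroup.le_normalizer_map (H := c.W) (MulAut.conj g').toMonoidHom)
    ⟨_, c.W_inv.2 h1, rfl⟩
  simpa [mul_assoc] using h2

theorem Ctx.W_le_M : c.W ≤ c.M := by
  unfold Ctx.M
  split_ifs with h
  · exact h ▸ bot_le
  · exact le_normalizer

theorem Ctx.H_le_M : c.H ≤ c.M := by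
  unfold Ctx.M
  split_ifs with h
  · exact le_normalizer
  · exact c.W_inv.2

theorem Ctx.M_ne_top : c.M ≠ ⊤ := by
  unfold Ctx.M
  split_ifs with h
  · exact c.normalizer_ne_top c.H_ne_bot (c.ne_top_of_coprime c.H_cop)
  · exact c.normalizer_ne_top h (c.ne_top_of_pgroup c.W_inv.1)

theorem Ctx.normalizer_H_le_M : normalizer (c.H : Set G) ≤ c.M := by
  unfold Ctx.M
  split_ifs with h
  · exact le_rfl
  · exact c.normalizer_H_le_normalizer_W

theorem Ctx.M_le_normalizer_W : c.M ≤ normalizer (c.W : Set G) := by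
  unfold Ctx.M
  split_ifs with h
  · rw [h, Subgroup.normalizer_eq_top (⊥ : Subgroup G)]; exact le_top
  · exact le_rfl

/-- In a proper subgroup above `H`, everything is a product of `O_p H` and `N(H)`. -/
theorem Ctx.exists_decomp {X : Subgroup G} (hX : X ≠ ⊤) (hHX : c.H ≤ X) {x : G} (hx : x ∈ X) :
    ∃ k ∈ op p X ⊔ c.H, k⁻¹ * x ∈ normalizer (c.H : Set G) := by
  set K := op p X ⊔ c.H with hK
  have hKX : K ≤ X := sup_le (op_le X) hHX
  have hconj := c.conj_mem_op_sup hX hHX c.H_cop (c.hallOf hX hHX c.H_cop c.H_max)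
  have hxn : x ∈ normalizer (K : Set G) := by
    rw [Subgroup.mem_normalizer_iff]
    refine fun y => ⟨hconj x hx y, fun h => ?_⟩
    simpa [mul_assoc] using hconj x⁻¹ (inv_mem hx) _ h
  have hKt : K ≠ ⊤ := fun h => hX (top_le_iff.1 (h ▸ hKX))
  have hH1 : Cfsg.IsPiHallOf (pi p) c.H K :=
    Coprime.isPiHallOf_iff.2 ⟨le_sup_right, c.hallOf hKt le_sup_right c.H_cop c.H_max⟩
  obtain ⟨k, hk, he⟩ := Coprime.exists_conj_hallOf (c.solv K hKt) hH1
    (Coprime.isPiHallOf_map_conj hxn hH1)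
  refine ⟨k, hk, Coprime.mem_normalizer_of_map_conj ?_⟩
  have e1 : ∀ a b : G, c.H.map (MulAut.conj (a * b)).toMonoidHom =
      (c.H.map (MulAut.conj b).toMonoidHom).map (MulAut.conj a).toMonoidHom := fun a b => by
    rw [Subgroup.map_map]
    congr 1
    ext y
    simp [mul_assoc]
  rw [e1, ← he, ← e1, inv_mul_cancel, map_one]
  exact Subgroup.map_id _

/-- `M` is the only maximal subgroup above `H`. -/
theorem Ctx.le_M {X : Subgroup G} (hX : X ≠ ⊤) (hHX : c.H ≤ X) : X ≤ c.M := by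
  intro x hx
  obtain ⟨k, hk, hkx⟩ := c.exists_decomp hX hHX hx
  have hkM : k ∈ c.M := sup_le ((c.le_W (c.inv_op hHX)).trans c.W_le_M) c.H_le_M hk
  rw [← mul_inv_cancel_left k x]
  exact mul_mem hkM (c.normalizer_H_le_M hkx)

theorem Ctx.centralizer_le_M {t : G} (ht : t ∈ c.H) (ht1 : t ≠ 1) :
    centralizer ({t} : Set G) ≤ c.M :=
  c.le_M (c.centralizer_ne_top ht1) (c.H_le_centralizer ht)

theorem Ctx.T_le_M : (c.T : Subgroup G) ≤ c.M := c.T_le.trans c.H_le_M

theorem Ctx.normalizer_T_le_M : normalizer ((c.T : Subgroup G) : Set G) ≤ c.M :=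
  c.le_M (c.normalizer_ne_top c.T_ne_bot (c.ne_top_of_coprime c.coprime_T))
    (c.H_le_normalizer c.T_le)

theorem Ctx.E_ne_bot : c.E ≠ ⊥ := fun h => by
  have h8 := c.eight_le_card_E
  rw [h, Subgroup.card_bot] at h8
  omega

theorem Ctx.normalizer_E_le_M : normalizer (c.E : Set G) ≤ c.M :=
  c.le_M (c.normalizer_ne_top c.E_ne_bot (c.ne_top_of_coprime c.coprime_E))
    (c.H_le_normalizer c.E_le_H)

/-- A `2`-element of an overgroup of `T` is conjugate there into `T`. -/
theorem Ctx.exists_conj_mem_T {X : Subgroup G} (hX : (c.T : Subgroup G) ≤ X) {t : G} (ht : t ∈ X)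
    (ht2 : t * t = 1) : ∃ x ∈ X, x * t * x⁻¹ ∈ c.E := by
  haveI : Fact (Nat.Prime 2) := ⟨Nat.prime_two⟩
  have h2 : IsPGroup 2 (Subgroup.zpowers (⟨t, ht⟩ : X)) := IsPGroup.of_card_dvd_pow (n := 1) (by
    rw [Nat.card_zpowers, pow_one]
    exact orderOf_dvd_of_pow_eq_one (Subtype.ext (by simp [pow_two, ht2])))
  obtain ⟨P, hP⟩ := h2.exists_le_sylow
  obtain ⟨x, hx⟩ := MulAction.exists_smul_eq X P (c.T.subtype hX)
  refine ⟨x, x.2, ?_, ?_⟩
  · have hm : x * (⟨t, ht⟩ : X) * x⁻¹ ∈ ((x • P : Sylow 2 X) : Subgroup X) := by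
      rw [Sylow.coe_subgroup_smul]
      exact ⟨⟨t, ht⟩, hP (Subgroup.mem_zpowers _), rfl⟩
    rw [hx] at hm
    exact Subgroup.mem_subgroupOf.1 hm
  · calc (x : G) * t * (x : G)⁻¹ * ((x : G) * t * (x : G)⁻¹) = x * (t * t) * (x : G)⁻¹ := by group
      _ = 1 := by rw [ht2]; group

/-- `M` contains the centralisers of its involutions. -/
theorem Ctx.centralizer_le_M_of_involution {t : G} (ht : t ∈ c.M) (ht2 : t * t = 1) (ht1 : t ≠ 1) :
    centralizer ({t} : Set G) ≤ c.M := by
  intro y hy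
  obtain ⟨x, hx, he⟩ := c.exists_conj_mem_T c.T_le_M ht ht2
  have h1 : x * y * x⁻¹ ∈ centralizer ({x * t * x⁻¹} : Set G) := by
    rw [Subgroup.mem_centralizer_singleton_iff] at hy ⊢
    calc x * y * x⁻¹ * (x * t * x⁻¹) = x * (y * t) * x⁻¹ := by group
      _ = x * t * x⁻¹ * (x * y * x⁻¹) := by rw [hy]; group
  have h2 := c.centralizer_le_M (c.E_le_H he) (by rwa [ne_eq, conj_eq_one_iff]) h1
  have h3 := mul_mem (mul_mem (inv_mem hx) h2) hx
  simpa [mul_assoc] using h3

theorem Ctx.exists_involution_not_mem_M : ∃ t : G, t * t = 1 ∧ t ∉ c.M := by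
  by_contra hall
  push Not at hall
  obtain ⟨e, he, he1⟩ := (Subgroup.bot_or_exists_ne_one c.E).resolve_left c.E_ne_bot
  have htop : Subgroup.normalClosure ({e} : Set G) = ⊤ := c.normal_eq_top fun h => he1 (by
    rw [← Subgroup.mem_bot, ← h]; exact Subgroup.subset_normalClosure rfl)
  have hle : Subgroup.normalClosure ({e} : Set G) ≤ c.M := by
    refine (Subgroup.closure_le _).2 fun y hy => ?_
    obtain ⟨z, hz, hzy⟩ := Group.mem_conjugatesOfSet_iff.1 hy
    obtain rfl : z = e := hz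
    obtain ⟨g, rfl⟩ := isConj_iff.1 hzy
    exact hall _ (by
      calc g * z * g⁻¹ * (g * z * g⁻¹) = g * (z * z) * g⁻¹ := by group
        _ = 1 := by rw [c.E_sq he]; group)
  exact c.M_ne_top (top_le_iff.1 (htop ▸ hle))

/-- An involution in `M` and one outside are conjugate. -/
theorem Ctx.isConj_of_mem_of_not_mem {s t : G} (hs : s ∈ c.M) (hs2 : s * s = 1) (hs1 : s ≠ 1)
    (ht2 : t * t = 1) (htM : t ∉ c.M) : IsConj s t := by
  have hsi : s⁻¹ = s := inv_eq_of_mul_eq_one_right hs2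
  have hti : t⁻¹ = t := inv_eq_of_mul_eq_one_right ht2
  set a := s * t with ha
  have hinv : ∀ n : ℕ, s * a ^ n * s⁻¹ = (a ^ n)⁻¹ := fun n => by
    rw [← conj_pow, ← inv_pow]
    congr 1
    rw [ha, hsi, mul_inv_rev, hti, hsi, ← mul_assoc, hs2, one_mul]
  rcases Nat.even_or_odd (orderOf a) with ⟨m, hm⟩ | ⟨m, hm⟩
  · exfalso
    have hpos := orderOf_pos a
    set z := a ^ m with hz
    have hz1 : z ≠ 1 := fun h => by
      have := orderOf_le_of_pow_eq_one (by omega : 0 < m) h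
      omega
    have hz2 : z * z = 1 := by rw [hz, ← pow_add, ← hm, pow_orderOf_eq_one]
    have hzi : z⁻¹ = z := inv_eq_of_mul_eq_one_right hz2
    have hsz : s * z * s⁻¹ = z := by rw [hz, hinv m, ← hz, hzi]
    have hzs : z * s = s * z := by
      calc z * s = s * z * s⁻¹ * s := by rw [hsz]
        _ = s * z := by group
    have hzM : z ∈ c.M := c.centralizer_le_M_of_involution hs hs2 hs1
      (Subgroup.mem_centralizer_singleton_iff.2 hzs)
    refine htM (c.centralizer_le_M_of_involution hzM hz2 hz1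
      (Subgroup.mem_centralizer_singleton_iff.2 ?_))
    have hza : z * a = a * z := (Commute.pow_self a m).eq
    rw [show t = s * a by rw [ha, ← mul_assoc, hs2, one_mul]]
    calc s * a * z = s * (z * a) := by rw [hza, mul_assoc]
      _ = z * (s * a) := by rw [← mul_assoc, ← hzs, mul_assoc]
  · refine isConj_iff.2 ⟨a ^ m, ?_⟩
    have h1 : a ^ (2 * m) * a = 1 := by rw [← pow_succ, ← hm, pow_orderOf_eq_one]
    calc a ^ m * s * (a ^ m)⁻¹ = a ^ m * (s * (a ^ m)⁻¹ * s⁻¹) * s := by group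
      _ = a ^ (2 * m) * s := by
        rw [show s * (a ^ m)⁻¹ * s⁻¹ = (s * a ^ m * s⁻¹)⁻¹ by group, hinv m, inv_inv, ← pow_add,
          two_mul]
      _ = a⁻¹ * s := by rw [eq_inv_of_mul_eq_one_left h1]
      _ = t := by rw [ha, mul_inv_rev, hti, mul_assoc, inv_mul_cancel, mul_one]

/-- There is one class of involutions. -/
theorem Ctx.isConj_involution {e x : G} (he : e ∈ c.E) (he1 : e ≠ 1) (hx2 : x * x = 1)
    (hx1 : x ≠ 1) : IsConj e x := by
  have heM := c.H_le_M (c.E_le_H he)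
  by_cases hx : x ∈ c.M
  · obtain ⟨t, ht2, htM⟩ := c.exists_involution_not_mem_M
    exact (c.isConj_of_mem_of_not_mem heM (c.E_sq he) he1 ht2 htM).trans
      (c.isConj_of_mem_of_not_mem hx hx2 hx1 ht2 htM).symm
  · exact c.isConj_of_mem_of_not_mem heM (c.E_sq he) he1 hx2 hx

theorem Ctx.T_isMulCommutative : IsMulCommutative (c.T : Subgroup G) :=
  ⟨⟨fun a b => Subtype.ext (c.T_comm a a.2 b b.2).eq⟩⟩

/-- `N(T)` is transitive on `E♯`. -/
theorem Ctx.exists_conj_E {e e' : G} (he : e ∈ c.E) (he' : e' ∈ c.E) (h1 : e ≠ 1) (h1' : e' ≠ 1) :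
    ∃ n ∈ normalizer ((c.T : Subgroup G) : Set G), n * e * n⁻¹ = e' := by
  haveI : Fact (Nat.Prime 2) := ⟨Nat.prime_two⟩
  obtain ⟨g, hg⟩ := isConj_iff.1 (c.isConj_involution he h1 (c.E_sq he') h1')
  obtain ⟨n, hn, h⟩ := Fusion.controlsElementFusion_normalizer_of_commutative c.T
    c.T_isMulCommutative e (c.E_le_T he) g (hg ▸ c.E_le_T he')
  exact ⟨n, hn, h.trans hg⟩

theorem Ctx.conj_mem_E {g : G} (hg : g ∈ normalizer ((c.T : Subgroup G) : Set G)) {x : G}
    (hx : x ∈ c.E) : g * x * g⁻¹ ∈ c.E :=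
  ⟨(Subgroup.mem_normalizer_iff.1 hg x).1 (c.E_le_T hx), by
    calc g * x * g⁻¹ * (g * x * g⁻¹) = g * (x * x) * g⁻¹ := by group
      _ = 1 := by rw [c.E_sq hx]; group⟩

theorem Ctx.card_E : Nat.card c.E = p + 1 := by
  classical
  haveI : Fact (Nat.Prime 2) := ⟨Nat.prime_two⟩
  set N := normalizer ((c.T : Subgroup G) : Set G)
  let Es := {e : G // e ∈ c.E ∧ e ≠ 1}
  letI act : MulAction N Es :=
    { smul := fun g e => ⟨(g : G) * e.1 * (g : G)⁻¹, c.conj_mem_E g.2 e.2.1, by
        rw [ne_eq, conj_eq_one_iff]; exact e.2.2⟩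
      one_smul := fun e => Subtype.ext (show ((1 : N) : G) * e.1 * ((1 : N) : G)⁻¹ = e.1 by simp)
      mul_smul := fun g h e => Subtype.ext (show ((g * h : N) : G) * e.1 * ((g * h : N) : G)⁻¹ =
        (g : G) * ((h : G) * e.1 * (h : G)⁻¹) * (g : G)⁻¹ by simp [mul_assoc]) }
  have hR : IsPGroup p (MulAction.toPermHom N Es).range := by
    rintro ⟨_, g, rfl⟩
    obtain ⟨k, hk⟩ := c.exists_pow_centralises c.coprime_T g.2
    refine ⟨k, Subtype.ext ?_⟩
    rw [SubmonoidClass.coe_pow, OneMemClass.coe_one]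
    show (MulAction.toPermHom N Es g) ^ p ^ k = 1
    rw [← map_pow]
    refine Equiv.ext fun e => Subtype.ext ?_
    show ((g ^ p ^ k : N) : G) * e.1 * ((g ^ p ^ k : N) : G)⁻¹ = e.1
    rw [SubmonoidClass.coe_pow, (hk e.1 (c.E_le_T e.2.1)).eq, mul_inv_cancel_right]
  obtain ⟨e, he, he1⟩ := (Subgroup.bot_or_exists_ne_one c.E).resolve_left c.E_ne_bot
  obtain ⟨a, ha⟩ := hR.card_orbit (α := Es) ⟨e, he, he1⟩
  have htop : MulAction.orbit (MulAction.toPermHom N Es).range (⟨e, he, he1⟩ : Es) = Set.univ := by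
    refine Set.eq_univ_of_forall fun e' => ?_
    obtain ⟨n, hn, h⟩ := c.exists_conj_E he e'.2.1 he1 e'.2.2
    exact ⟨⟨_, ⟨n, hn⟩, rfl⟩, Subtype.ext h⟩
  rw [htop, Nat.card_congr (Equiv.Set.univ Es)] at ha
  have hcard : Nat.card c.E = Nat.card Es + 1 := by
    have e : c.E ≃ Option Es :=
      { toFun := fun x => if h : (x : G) = 1 then none else some ⟨x, x.2, h⟩
        invFun := fun o => match o with
          | none => 1
          | some y => ⟨y.1, y.2.1⟩
        left_inv := fun x => by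
          by_cases h : (x : G) = 1
          · simp only [dif_pos h]
            exact Subtype.ext h.symm
          · simp only [dif_neg h]
        right_inv := fun o => by
          rcases o with - | y
          · simp
          · simp [y.2.2] }
    rw [Nat.card_congr e, Finite.card_option]
  rw [ha] at hcard
  obtain ⟨r, hr⟩ := c.card_E_pow
  have h8 := c.eight_le_card_E
  have ha1 : 1 ≤ a := by
    rcases Nat.eq_zero_or_pos a with rfl | h
    · rw [pow_zero] at hcard; omega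
    · exact h
  rw [hcard, S3370.exp_one hpF.out (hcard.symm.trans hr) ha1]

/-- An element normalising `E` and fixing one of its involutions centralises it. -/
theorem Ctx.commute_E_of_fix {g : G} (hg : g ∈ normalizer (c.E : Set G)) {e : G} (he : e ∈ c.E)
    (he1 : e ≠ 1) (hge : Commute g e) : ∀ a ∈ c.E, Commute g a := by
  obtain ⟨k, hk⟩ := c.exists_pow_centralises c.coprime_E hg
  have hmod := card_modEq_fixed hg hk
  set F := c.E ⊓ centralizer ({g} : Set G) with hF
  obtain ⟨r, hr⟩ := c.card_E_pow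
  obtain ⟨f, hf', hf⟩ := (Nat.dvd_prime_pow Nat.prime_two).1
    (hr ▸ Subgroup.card_dvd_of_le (inf_le_left : F ≤ c.E))
  rcases eq_or_lt_of_le hf' with h | hlt
  · intro a ha
    have hFE : F = c.E := Subgroup.eq_of_le_of_card_ge inf_le_left (by rw [hr, hf, h])
    exact (Subgroup.mem_centralizer_singleton_iff.1 (Subgroup.mem_inf.1 (hFE ▸ ha : a ∈ F)).2).symm
  exfalso
  have hf1 : 1 ≤ f := by
    rcases Nat.eq_zero_or_pos f with rfl | h
    · rw [pow_zero] at hf
      exact absurd (Subgroup.mem_bot.1 ((Subgroup.card_eq_one.1 hf) ▸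
        (Subgroup.mem_inf.2 ⟨he, Subgroup.mem_centralizer_singleton_iff.2 hge.symm.eq⟩ : e ∈ F))) he1
    · exact h
  rw [hr, hf] at hmod
  have hdvd : p ∣ 2 ^ r - 2 ^ f :=
    (Nat.modEq_iff_dvd' (Nat.pow_le_pow_right two_pos hlt.le)).1 hmod.symm
  rw [show 2 ^ r - 2 ^ f = 2 ^ f * (2 ^ (r - f) - 1) by
    rw [Nat.mul_sub_one, ← pow_add, Nat.add_sub_of_le hlt.le]] at hdvd
  have hdvd' : p ∣ 2 ^ (r - f) - 1 := (hpF.out.dvd_mul.1 hdvd).resolve_left fun h =>
    c.hp2 ((Nat.prime_dvd_prime_iff_eq hpF.out Nat.prime_two).1 (hpF.out.dvd_of_dvd_pow h))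
  have h2 : 2 ≤ 2 ^ (r - f) := Nat.le_self_pow (by omega) 2
  have hle := Nat.le_of_dvd (by omega) hdvd'
  have hlt' : 2 ^ (r - f) < 2 ^ r := Nat.pow_lt_pow_right one_lt_two (by omega)
  have hce := c.card_E
  omega

end Cfsg.Agent.H77.PPAb
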