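import Mathlib
import Cfsg.Agent.H77.PPAb.Local
import Cfsg.Agent.Thompson.ZJFusion
import Cfsg.Agent.Thompson.Forms
import Cfsg.Agent.Cores.Constrained

/-!
# A simple group all whose `p'`-subgroups are abelian: `M` normalises `E`

Otherwise `M = N(Z(J(S)))` modulo an odd `p'`-core, so `M` controls `p`-fusion, and the focal
subgroup theorem gives `M = O_p(M) H`, against the transitivity of `N(T)` on `E♯`.
-/

set_option autoImplicit false
set_option linter.style.haveILetI false
set_option linter.unusedSectionVars false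

namespace Cfsg.Agent.H77.PPAb

open Subgroup
open scoped Pointwise commutatorElement

universe u

variable {G : Type u} [Group G] {p : ℕ}

theorem le_normalizer_map_subtype {X : Subgroup G} (K : Subgroup X) [K.Normal] :
    X ≤ normalizer (K.map X.subtype : Set G) := by
  have h := Subgroup.le_normalizer_map (H := K) X.subtype
  rw [Subgroup.normalizer_eq_top, ← MonoidHom.range_eq_map, range_subtype] at h
  exact h

theorem mem_normalizer_of_commute {A : Subgroup G} {g : G} (h : ∀ a ∈ A, Commute g a) :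
    g ∈ normalizer (A : Set G) := by
  rw [Subgroup.mem_normalizer_iff]
  intro y
  constructor <;> intro hy
  · rwa [(h y hy).eq, mul_inv_cancel_right]
  · have h1 := ((h _ hy).inv_left).eq
    have : y = g * y * g⁻¹ := by
      calc y = g⁻¹ * (g * y * g⁻¹) * g := by group
        _ = _ := by rw [h1]; group
    rwa [this]

/-- The Frattini argument inside `X`, for a Sylow subgroup of `G` contained in `K`. -/
theorem exists_sylow_decomp [Finite G] {q : ℕ} [Fact q.Prime] {X K : Subgroup G} (P : Sylow q G)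
    (hPK : (P : Subgroup G) ≤ K) (hconj : ∀ x ∈ X, ∀ y ∈ K, x * y * x⁻¹ ∈ K) {x : G} (hx : x ∈ X) :
    ∃ k ∈ K, k⁻¹ * x ∈ normalizer ((P : Subgroup G) : Set G) := by
  have hle : ((x • P : Sylow q G) : Subgroup G) ≤ K := by
    rintro _ ⟨y, hy, rfl⟩
    exact hconj x hx y (hPK hy)
  obtain ⟨k, hk⟩ := MulAction.exists_smul_eq K (P.subtype hPK) ((x • P).subtype hle)
  rw [Sylow.smul_subtype] at hk
  have hk' : (k : G) • P = x • P := Sylow.subtype_injective hk
  exact ⟨k, k.2, Sylow.smul_eq_iff_mem_normalizer.mp (by rw [mul_smul, ← hk', inv_smul_smul])⟩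

section Finite

variable [Finite G] [hpF : Fact p.Prime] (c : Ctx G p)
include c

theorem Ctx.not_isCyclic_E : ¬ IsCyclic c.E := by
  intro h
  obtain ⟨g, hg⟩ := IsCyclic.exists_ofOrder_eq_natCard (α := c.E)
  have h2 : g * g = 1 := Subtype.ext (c.E_sq g.2)
  have := orderOf_le_of_pow_eq_one two_pos (show g ^ 2 = 1 by rw [pow_two, h2])
  have := c.eight_le_card_E
  omega

theorem Ctx.op_le_M {X : Subgroup G} (hEX : c.E ≤ X) : op p X ≤ c.M := by
  haveI : IsMulCommutative c.E :=
    ⟨⟨fun a b => Subtype.ext (c.T_comm a (c.E_le_T a.2) b (c.E_le_T b.2)).eq⟩⟩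
  obtain ⟨k, hk⟩ := IsPGroup.iff_card.1 (op_isPGroup c X)
  refine Coprime.le_of_centralizer_noncyclic_le c.not_isCyclic_E
    (hEX.trans (le_normalizer_op X)) (by rw [hk]; exact c.coprime_E.pow_right k) fun a ha ha1 => ?_
  exact inf_le_right.trans (c.centralizer_le_M (c.E_le_H ha) ha1)

theorem Ctx.conj_mem_of_hall {X A : Subgroup G} (hX : X ≠ ⊤) (hAX : A ≤ X)
    (hA : (Nat.card A).Coprime p) :
    ∃ K : Subgroup G, A ≤ K ∧ K ≤ X ∧ (Nat.card K).Coprime p ∧
      ∀ x ∈ X, ∀ y ∈ op p X ⊔ K, x * y * x⁻¹ ∈ op p X ⊔ K := by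
  have hp : p.Prime := hpF.out
  haveI := c.solv X hX
  obtain ⟨K', hK', hle⟩ := (Hall.hallDom_of_isSolvable (pi p) X).exists_le (U := A.subgroupOf X)
    ((isPiNumber_pi hp).2 (by rwa [Nat.card_congr (subgroupOfEquivOfLe hAX).toEquiv]))
  have hc : (Nat.card (K'.map X.subtype)).Coprime p := by
    rw [Subgroup.card_map_of_injective X.subtype_injective]
    exact (isPiNumber_pi hp).1 hK'.1
  refine ⟨_, ?_, map_subtype_le _, hc, c.conj_mem_op_sup hX (map_subtype_le _) hc ?_⟩
  · rw [← map_subgroupOf_eq_of_le hAX]; exact Subgroup.map_mono hle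
  · rwa [Subgroup.subgroupOf, Subgroup.comap_map_eq_self_of_injective X.subtype_injective]

/-- Every proper subgroup above `T` lies in `M`. -/
theorem Ctx.le_M_of_T_le {X : Subgroup G} (hX : X ≠ ⊤) (hTX : (c.T : Subgroup G) ≤ X) :
    X ≤ c.M := by
  obtain ⟨K, hTK, -, hKc, hconj⟩ := c.conj_mem_of_hall hX hTX c.coprime_T
  obtain ⟨e, he, he1⟩ := (Subgroup.bot_or_exists_ne_one c.E).resolve_left c.E_ne_bot
  have hKM : K ≤ c.M := fun y hy => c.centralizer_le_M (c.E_le_H he) he1
    (Subgroup.mem_centralizer_singleton_iff.2 (c.ab K hKc y hy e (hTK (c.E_le_T he))).eq)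
  intro x hx
  haveI : Fact (Nat.Prime 2) := ⟨Nat.prime_two⟩
  obtain ⟨k, hk, hkx⟩ := exists_sylow_decomp c.T
    (hTK.trans (le_sup_right : K ≤ op p X ⊔ K)) hconj hx
  rw [← mul_inv_cancel_left k x]
  exact mul_mem (sup_le (c.op_le_M (c.E_le_T.trans hTX)) hKM hk) (c.normalizer_T_le_M hkx)

theorem Ctx.M_le_normalizer_E_of_centralizes (h : ∀ w ∈ c.W, ∀ a ∈ c.E, Commute w a) :
    c.M ≤ normalizer (c.E : Set G) := by
  intro x hx
  obtain ⟨k, hk, hkx⟩ := c.exists_decomp c.M_ne_top c.H_le_M hx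
  rw [← mul_inv_cancel_left k x]
  refine mul_mem (sup_le ?_ (c.H_le_normalizer c.E_le_H) hk) ?_
  · exact fun w hw => mem_normalizer_of_commute fun a ha =>
      h w (c.le_W (c.inv_op c.H_le_M) hw) a ha
  · have key : ∀ g ∈ normalizer (c.H : Set G), ∀ a ∈ c.E, g * a * g⁻¹ ∈ c.E := fun g hg a ha =>
      c.H_sq_mem ((Subgroup.mem_normalizer_iff.1 hg a).1 (c.E_le_H ha)) (by
        calc g * a * g⁻¹ * (g * a * g⁻¹) = g * (a * a) * g⁻¹ := by group
          _ = 1 := by rw [c.E_sq ha]; group)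
    rw [Subgroup.mem_normalizer_iff]
    refine fun a => ⟨key _ hkx a, fun ha => ?_⟩
    simpa [mul_assoc] using key _ (inv_mem hkx) _ ha

theorem Ctx.isPerfect : commutator G = ⊤ := by
  refine c.normal_eq_top fun h => c.nc ⟨⟨fun a b => ?_⟩⟩
  have : ⁅a, b⁆ ∈ commutator G := Subgroup.commutator_mem_commutator (mem_top a) (mem_top b)
  rw [h, Subgroup.mem_bot, commutatorElement_eq_one_iff_commute] at this
  exact this

theorem Ctx.M_le_normalizer_E : c.M ≤ normalizer (c.E : Set G) := by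
  classical
  by_contra hcon
  have hp : p.Prime := hpF.out
  haveI : Fact (Nat.Prime 2) := ⟨Nat.prime_two⟩
  have hWC : ¬ ∀ w ∈ c.W, ∀ a ∈ c.E, Commute w a := fun h =>
    hcon (c.M_le_normalizer_E_of_centralizes h)
  have hW : c.W ≠ ⊥ := fun h => hWC fun w hw a _ => by
    rw [h, Subgroup.mem_bot] at hw; subst hw; exact Commute.one_left a
  haveI := c.solv c.M c.M_ne_top
  set O := Cfsg.pPrimeCore p c.M with hO
  haveI : O.Normal := Cfsg.pPrimeCore_normal p c.M
  set K0 := O.map c.M.subtype with hK0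
  have hK0M : K0 ≤ c.M := map_subtype_le _
  have hK0c : (Nat.card K0).Coprime p := by
    rw [hK0, Subgroup.card_map_of_injective c.M.subtype_injective]
    exact Cores.coprime_card_pPrimeCore
  -- the `p'`-core is odd
  have hodd : ¬ 2 ∣ Nat.card O := by
    intro h2
    rw [← Subgroup.card_map_of_injective c.M.subtype_injective, ← hK0] at h2
    obtain ⟨z, hz⟩ := exists_prime_orderOf_dvd_card' 2 h2
    have hz2 : (z : G) * z = 1 := by
      rw [← pow_two, ← hz, ← Subgroup.orderOf_coe z]; exact pow_orderOf_eq_one _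
    have hz1 : (z : G) ≠ 1 := fun h => by
      rw [← Subgroup.orderOf_coe z, h, orderOf_one] at hz
      omega
    obtain ⟨m, hm, hmz⟩ := c.exists_conj_mem_T c.T_le_M (hK0M z.2) hz2
    have hmK : m * z * m⁻¹ ∈ K0 :=
      (Subgroup.mem_normalizer_iff.1 (le_normalizer_map_subtype O hm) z).1 z.2
    have hEK : c.E ≤ K0 := by
      intro a ha
      by_cases ha1 : a = 1
      · subst ha1; exact one_mem _
      obtain ⟨n, hn, hna⟩ := c.exists_conj_E hmz ha (by rwa [ne_eq, conj_eq_one_iff]) ha1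
      rw [← hna]
      exact (Subgroup.mem_normalizer_iff.1
        (le_normalizer_map_subtype O (c.normalizer_T_le_M hn)) _).1 hmK
    exact hWC fun w hw a ha => (commute_of_normalizes (hK0M.trans c.M_le_normalizer_W)
      (c.W_le_M.trans (le_normalizer_map_subtype O))
      (by rw [inf_comm]; exact inf_eq_bot_of_pgroup_of_coprime c.W_inv.1 hK0c) a (hEK ha) w hw).symm
  -- a Sylow `p`-subgroup of `M`
  obtain ⟨S⟩ : Nonempty (Sylow p c.M) := inferInstance
  set Z := Thompson.zjay 0 (S : Subgroup c.M) with hZdef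
  set TM : Sylow 2 c.M := c.T.subtype c.T_le_M with hTM
  have hsup : O ⊔ normalizer (Z : Set c.M) = ⊤ := by
    refine Thompson.sup_normalizer_zjay_of_quotient S fun S' => ?_
    refine Thompson.zjay_normal c.hp2 (Or.inl rfl)
      (Cores.centralizer_pCore_le Cores.isPSolvable_of_isSolvable
        Cores.pPrimeCore_quotient_pPrimeCore) ?_ S'
    refine Thompson.stableOnNormal_of_abelian_sylow_two c.hp2
      (TM.mapSurjective (QuotientGroup.mk'_surjective O)) ⟨⟨?_⟩⟩
    rintro ⟨_, a, ha, rfl⟩ ⟨_, b, hb, rfl⟩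
    refine Subtype.ext ?_
    have hab : a * b = b * a := Subtype.ext (c.T_comm a ha b hb).eq
    show QuotientGroup.mk' O a * QuotientGroup.mk' O b = QuotientGroup.mk' O b * QuotientGroup.mk' O a
    rw [← map_mul, ← map_mul, hab]
  set Nz := normalizer (Z : Set c.M) with hNz
  have hidx : ¬ 2 ∣ Nz.index := by
    have h1 : Nat.card ↥(Nz ⊔ O) ∣ Nat.card Nz * Nat.card O := Cores.card_sup_dvd Nz O
    rw [sup_comm, hsup, Subgroup.card_top, ← Subgroup.card_mul_index Nz] at h1
    exact fun h => hodd (h.trans ((Nat.mul_dvd_mul_iff_left Nat.card_pos).1 h1))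
  obtain ⟨P2⟩ : Nonempty (Sylow 2 Nz) := inferInstance
  have hP2 : Nat.card ((P2 : Subgroup Nz).map Nz.subtype) = 2 ^ (Nat.card c.M).factorization 2 := by
    rw [Subgroup.card_map_of_injective Nz.subtype_injective, P2.card_eq_multiplicity,
      ← Subgroup.card_mul_index Nz,
      Nat.factorization_mul Nat.card_pos.ne' Subgroup.index_ne_zero_of_finite,
      Finsupp.add_apply, Nat.factorization_eq_zero_of_not_dvd hidx, add_zero]
  obtain ⟨x, hx⟩ := MulAction.exists_smul_eq c.M TM (Sylow.ofCard _ hP2)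
  set S' := (S : Subgroup c.M).map c.M.subtype with hS'def
  set Z' := Thompson.zjay 0 S' with hZ'def
  have hZ' : Z' = Z.map c.M.subtype := Thompson.zjay_map_of_injective_comp c.M.subtype _
    (c.M.subtype_injective.comp (S : Subgroup c.M).subtype_injective)
  have hS'p : IsPGroup p S' := S.isPGroup'.map _
  have hS'ne : S' ≠ ⊥ := by
    rw [hS'def, ne_eq, Subgroup.map_eq_bot_iff_of_injective _ c.M.subtype_injective]
    refine S.ne_bot_of_dvd_card ?_
    obtain ⟨k, hk⟩ := IsPGroup.iff_card.1 c.W_inv.1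
    refine dvd_trans ?_ (Subgroup.card_dvd_of_le c.W_le_M)
    rw [hk]
    refine dvd_pow_self p fun h => hW (Subgroup.card_eq_one.1 ?_)
    rw [hk, h, pow_zero]
  set X := normalizer (Z' : Set G) with hXdef
  have hXne : X ≠ ⊤ := c.normalizer_ne_top (Thompson.zjay_ne_bot hS'p hS'ne (Or.inl rfl))
    (c.ne_top_of_pgroup (hS'p.to_le Thompson.zjay_le))
  have hXM : X ≤ c.M := by
    have hTX : (c.T : Subgroup G) ≤ X.map (MulAut.conj (x : G)⁻¹).toMonoidHom := by
      intro y hy
      have hm : x * ⟨y, c.T_le_M hy⟩ * x⁻¹ ∈ ((x • TM : Sylow 2 c.M) : Subgroup c.M) := by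
        rw [Sylow.coe_subgroup_smul]
        exact ⟨⟨y, c.T_le_M hy⟩, Subgroup.mem_subgroupOf.2 hy, rfl⟩
      rw [hx] at hm
      obtain ⟨n, -, hn⟩ := hm
      refine ⟨(x : G) * y * (x : G)⁻¹, ?_, by simp [mul_assoc]⟩
      have h1 := Subgroup.le_normalizer_map (H := Z) c.M.subtype ⟨n, n.2, rfl⟩
      rw [← hZ'] at h1
      have h2 : c.M.subtype n = (x : G) * y * (x : G)⁻¹ := congrArg Subtype.val hn
      rwa [h2] at h1
    have hne : X.map (MulAut.conj (x : G)⁻¹).toMonoidHom ≠ ⊤ := fun h => hXne (eq_top_iff.2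
      fun y _ => by
        obtain ⟨w, hw, hwy⟩ : (x : G)⁻¹ * y * x ∈ X.map (MulAut.conj (x : G)⁻¹).toMonoidHom :=
          h ▸ mem_top _
        have : w = y := by simpa [mul_assoc] using hwy
        rwa [← this])
    intro y hy
    have h1 := c.le_M_of_T_le hne hTX ⟨y, hy, rfl⟩
    have h2 := mul_mem (mul_mem x.2 h1) (inv_mem x.2)
    simpa [mul_assoc] using h2
  have hNS : normalizer (S' : Set G) ≤ c.M :=
    ((Thompson.normalizer_le_normalizer_jay 0 S').trans
      (Thompson.normalizer_jay_le_normalizer_zjay 0 S')).trans hXM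
  obtain ⟨P, hP⟩ := hS'p.exists_le_sylow
  have hinf : (P : Subgroup G) ⊓ c.M = S' := by
    refine le_antisymm ?_ (le_inf hP (map_subtype_le _))
    have h1 : ((P : Subgroup G) ⊓ c.M).subgroupOf c.M = S :=
      S.is_maximal' (P.isPGroup'.to_le inf_le_left |>.comap_subtype) (by
        intro y hy
        exact Subgroup.mem_subgroupOf.2
          (Subgroup.mem_inf.2 ⟨hP ⟨y, hy, rfl⟩, y.2⟩))
    rw [hS'def, ← h1, map_subgroupOf_eq_of_le inf_le_right]
  have hPM : (P : Subgroup G) ≤ c.M := by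
    by_contra hPM
    haveI : Group.IsNilpotent (P : Subgroup G) := P.isPGroup'.isNilpotent
    have hlt : S'.subgroupOf P < normalizer ((S'.subgroupOf P : Subgroup P) : Set P) :=
      Group.normalizerCondition_of_isNilpotent _ (lt_top_iff_ne_top.2 fun h =>
        hPM (le_trans (Subgroup.subgroupOf_eq_top.1 h) (map_subtype_le _)))
    obtain ⟨y, hy, hyS⟩ := SetLike.exists_of_lt hlt
    have hyN : (y : G) ∈ normalizer (S' : Set G) := by
      rw [Subgroup.mem_normalizer_iff]
      intro z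
      by_cases hz : z ∈ (P : Subgroup G)
      · exact Subgroup.mem_normalizer_iff.1 hy ⟨z, hz⟩
      · refine ⟨fun h => absurd (hP h) hz, fun h => absurd ?_ hz⟩
        have := mul_mem (mul_mem (inv_mem y.2) (hP h)) y.2
        simpa [mul_assoc] using this
    refine hyS (Subgroup.mem_subgroupOf.2 ?_)
    rw [← hinf]
    exact Subgroup.mem_inf.2 ⟨y.2, hNS hyN⟩
  have hPS : (P : Subgroup G) = S' := by rwa [inf_eq_left.2 hPM] at hinf
  -- `M` controls fusion in `P`
  have hq : ¬ Thompson.HasSection (Cfsg.qd p) G := fun h =>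
    Thompson.not_hasSection_SL2_of_abelian c.hp2 c.T c.T_isMulCommutative
      (Thompson.hasSection_sl2_of_qd h)
  have hctrl : Fusion.ControlsElementFusion c.M (P : Subgroup G) := by
    intro y hy g hgy
    obtain ⟨n, hn, hny⟩ := Thompson.strongFusion_zjay c.hp2 (Or.inl rfl) G hq P {y} g
      (Set.singleton_subset_iff.2 hy) (by
        rintro _ ⟨z, hz, rfl⟩
        obtain rfl : z = y := hz
        exact hgy)
    rw [Thompson.zjayW, hPS] at hn
    exact ⟨n, hXM hn, hny y rfl⟩
  have hPcomm : (P : Subgroup G) ≤ ⁅c.M, c.M⁆ := by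
    have h := Fusion.commutator_inf_eq_of_controls P hPM hctrl
    rw [c.isPerfect, top_inf_eq] at h
    exact h.trans_le inf_le_left
  -- so `M = O_p(M) H`
  set KM := Cfsg.pCore p c.M ⊔ c.H.subgroupOf c.M with hKM
  have hHall : Cfsg.IsPiHall (pi p) (c.H.subgroupOf c.M) :=
    c.hallOf c.M_ne_top c.H_le_M c.H_cop c.H_max
  haveI hKn : KM.Normal := (solvable_structure hHall
    (fun a ha b hb => Subtype.ext (c.comm_H a ha b hb).eq)).1
  have hKtop : KM = ⊤ := by
    set C := commutator c.M ⊔ KM with hC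
    have hSC : (S : Subgroup c.M) ≤ C := by
      intro s hs
      refine Subgroup.mem_sup_left ?_
      obtain ⟨s', hs', he⟩ : (s : G) ∈ (commutator c.M).map c.M.subtype := by
        rw [map_subtype_commutator]
        exact hPcomm (hPS ▸ ⟨s, hs, rfl⟩)
      rwa [← c.M.subtype_injective he]
    have hCtop : C = ⊤ := by
      rw [← Subgroup.index_eq_one]
      by_contra hd
      obtain ⟨q, hqp, hqd⟩ := Nat.exists_prime_and_dvd hd
      have h1 : q = p := isPiHall_pi_dvd hHall hqp (hqd.trans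
        (Subgroup.index_dvd_of_le (le_sup_right.trans (le_sup_right : KM ≤ C))))
      subst h1
      exact S.not_dvd_index (hqd.trans (Subgroup.index_dvd_of_le hSC))
    by_contra hne
    haveI : Nontrivial (c.M ⧸ KM) := QuotientGroup.nontrivial_iff.2 hne
    have h1 := Group.IsSolvable.commutator_lt_top_of_nontrivial (c.M ⧸ KM)
    refine h1.ne ?_
    have h2 := congrArg (Subgroup.map (QuotientGroup.mk' KM)) hCtop
    rw [hC, Subgroup.map_sup, QuotientGroup.map_mk'_self, sup_bot_eq, _root_.commutator_def,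
      Subgroup.map_commutator, Subgroup.map_top_of_surjective _ (QuotientGroup.mk'_surjective KM),
      ← _root_.commutator_def] at h2
    exact h2
  -- but `N(T)` moves `E`
  obtain ⟨e, he, he1⟩ := (Subgroup.bot_or_exists_ne_one c.E).resolve_left c.E_ne_bot
  obtain ⟨e', he', he'1, he'e⟩ : ∃ e' ∈ c.E, e' ≠ 1 ∧ e' ≠ e := by
    by_contra hno
    push Not at hno
    have hsub : (c.E : Set G) ⊆ {1, e} := fun a ha => by
      by_cases h : a = 1
      · exact Or.inl h
      · exact Or.inr (hno a ha h)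
    have h1 := Set.ncard_le_ncard hsub (Set.toFinite _)
    rw [← Nat.card_coe_set_eq] at h1
    change Nat.card c.E ≤ _ at h1
    have h2 := Set.ncard_insert_le (1 : G) {e}
    rw [Set.ncard_singleton] at h2
    have := c.eight_le_card_E
    omega
  obtain ⟨n, hn, hne⟩ := c.exists_conj_E he he' he1 he'1
  have hnM : (⟨n, c.normalizer_T_le_M hn⟩ : c.M) ∈ KM := hKtop ▸ mem_top _
  haveI : (Cfsg.pCore p c.M).Normal := Cfsg.pCore_normal p c.M
  obtain ⟨w, hw, h, hh, hwh⟩ := Subgroup.mem_sup_of_normal_left.1 hnM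
  have hwh' : (w : G) * h = n := congrArg Subtype.val hwh
  have hhH : (h : G) ∈ c.H := hh
  have hhe : (h : G) * e * (h : G)⁻¹ = e := by
    rw [(c.comm_H h hhH e (c.E_le_H he)).eq, mul_inv_cancel_right]
  have hwW : (w : G) ∈ c.W := c.le_W (c.inv_op c.H_le_M) ⟨w, hw, rfl⟩
  have hnw : n * e * n⁻¹ = (w : G) * e * (w : G)⁻¹ := by
    rw [← hwh']
    calc (w : G) * h * e * ((w : G) * h)⁻¹ = w * ((h : G) * e * (h : G)⁻¹) * (w : G)⁻¹ := by group
      _ = _ := by rw [hhe]
  have hd : n * e * n⁻¹ * e⁻¹ = 1 := by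
    rw [← Subgroup.mem_bot, ← inf_eq_bot_of_pgroup_of_coprime c.W_inv.1 c.coprime_E]
    refine Subgroup.mem_inf.2 ⟨?_, mul_mem (c.conj_mem_E hn he) (inv_mem he)⟩
    rw [hnw]
    have := (Subgroup.mem_normalizer_iff.1 (c.W_inv.2 (c.E_le_H he)) (w : G)⁻¹).1 (inv_mem hwW)
    simpa [mul_assoc] using mul_mem hwW this
  exact he'e (hne.symm.trans (mul_inv_eq_one.1 hd))

end Finite

end Cfsg.Agent.H77.PPAb
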