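import Mathlib
import Cfsg.Agent.H77.PPAb.CaseII

/-!
# A simple group all whose `p'`-subgroups are abelian: the final count

The centraliser of a product of two noncommuting involutions is an abelian Sylow `p`-subgroup,
and counting these pairs of involutions gives a contradiction.
-/

set_option autoImplicit false
set_option linter.style.haveILetI false
set_option linter.unusedSectionVars false

namespace Cfsg.Agent.H77.PPAb

open Subgroup
open scoped Pointwise

universe u

variable {G : Type u} [Group G] {p : ℕ}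

theorem card_isConj_eq_index (g : G) :
    Nat.card {x : G // IsConj g x} = (Subgroup.centralizer ({g} : Set G)).index := by
  have h1 : (MulAction.stabilizer (ConjAct G) g).index =
      (Subgroup.centralizer ({g} : Set G)).index := by
    rw [← Subgroup.index_map_equiv (Subgroup.centralizer ({g} : Set G))
      (ConjAct.toConjAct (G := G))]
    congr 1
    ext x
    obtain ⟨y, rfl⟩ := (ConjAct.toConjAct (G := G)).surjective x
    simp [MulAction.mem_stabilizer_iff, ConjAct.toConjAct_smul,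
      Subgroup.mem_centralizer_singleton_iff, mul_inv_eq_iff_eq_mul]
  rw [← h1, MulAction.index_stabilizer, ← Nat.card_coe_set_eq]
  refine Nat.card_congr (Equiv.subtypeEquivRight fun x => ?_)
  show IsConj g x ↔ x ∈ MulAction.orbit (ConjAct G) g
  rw [ConjAct.mem_orbit_conjAct, isConj_comm]

/-- Conjugation respects centralisers of singletons. -/
theorem mem_centralizer_conj {g x y : G} :
    g * y * g⁻¹ ∈ centralizer ({g * x * g⁻¹} : Set G) ↔ y ∈ centralizer ({x} : Set G) := by
  simp only [Subgroup.mem_centralizer_singleton_iff]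
  have e : ∀ u v : G, g * u * g⁻¹ * (g * v * g⁻¹) = g * (u * v) * g⁻¹ := fun u v => by group
  rw [e, e]
  exact ⟨fun h => mul_left_cancel (mul_right_cancel h), fun h => by rw [h]⟩

section Finite

variable [Finite G] [hpF : Fact p.Prime] (c : Ctx G p)
include c

theorem Ctx.mem_E_of_mem_M {s : G} (hs : s ∈ c.M) (hs2 : s * s = 1) : s ∈ c.E := by
  obtain ⟨m, hm, h⟩ := c.exists_conj_mem_T c.T_le_M hs hs2
  exact (Subgroup.mem_normalizer_iff.1 (c.M_le_normalizer_E hm) s).2 h

theorem Ctx.commute_E {s y : G} (hs : s ∈ c.E) (hs1 : s ≠ 1) (hys : Commute y s) :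
    ∀ a ∈ c.E, Commute y a :=
  c.commute_E_of_fix (c.M_le_normalizer_E (c.centralizer_le_M (c.E_le_H hs) hs1
    (Subgroup.mem_centralizer_singleton_iff.2 hys.eq))) hs hs1 hys

/-- Every proper subgroup above `E` lies in `M`. -/
theorem Ctx.le_M_of_E_le {X : Subgroup G} (hX : X ≠ ⊤) (hEX : c.E ≤ X) : X ≤ c.M := by
  obtain ⟨K, hEK, -, hKc, hconj⟩ := c.conj_mem_of_hall hX hEX c.coprime_E
  obtain ⟨e, he, he1⟩ := (Subgroup.bot_or_exists_ne_one c.E).resolve_left c.E_ne_bot
  have hKM : K ≤ c.M := fun y hy => c.centralizer_le_M (c.E_le_H he) he1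
    (Subgroup.mem_centralizer_singleton_iff.2 (c.ab K hKc y hy e (hEK he)).eq)
  have key : ∀ x ∈ X, ∀ a ∈ c.E, x * a * x⁻¹ ∈ c.E := fun x hx a ha =>
    c.mem_E_of_mem_M (sup_le (c.op_le_M hEX) hKM (hconj x hx a (Subgroup.mem_sup_right (hEK ha))))
      (by
        calc x * a * x⁻¹ * (x * a * x⁻¹) = x * (a * a) * x⁻¹ := by group
          _ = 1 := by rw [c.E_sq ha]; group)
  intro x hx
  refine c.normalizer_E_le_M ?_
  rw [Subgroup.mem_normalizer_iff]
  refine fun a => ⟨key x hx a, fun ha => ?_⟩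
  simpa [mul_assoc] using key x⁻¹ (inv_mem hx) _ ha

theorem Ctx.exists_E : ∃ e ∈ c.E, e ≠ (1 : G) :=
  (Subgroup.bot_or_exists_ne_one c.E).resolve_left c.E_ne_bot

/-- A noncommuting pair of involutions `s, t` has no common fixed point in `C(s * t)`. -/
theorem Ctx.fix_eq_one {s t y : G} (hs2 : s * s = 1) (ht2 : t * t = 1) (hst : ¬ Commute s t)
    (hy : y ∈ centralizer ({s * t} : Set G)) (hys : Commute y s) : y = 1 := by
  have hs1 : s ≠ 1 := fun h => hst (h ▸ Commute.one_left t)
  obtain ⟨e, he, he1⟩ := c.exists_E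
  obtain ⟨g, hg⟩ := isConj_iff.1 (c.isConj_involution he he1 hs2 hs1).symm
  by_contra hy1
  set y' := g * y * g⁻¹ with hy'
  set t' := g * t * g⁻¹ with ht'
  have hy'1 : y' ≠ 1 := by rwa [hy', ne_eq, conj_eq_one_iff]
  have hye : Commute y' e := by
    show y' * e = e * y'
    rw [hy', ← hg]
    calc g * y * g⁻¹ * (g * s * g⁻¹) = g * (y * s) * g⁻¹ := by group
      _ = g * s * g⁻¹ * (g * y * g⁻¹) := by rw [hys.eq]; group
  have hEC : c.E ≤ centralizer ({y'} : Set G) := fun a ha =>
    Subgroup.mem_centralizer_singleton_iff.2 (c.commute_E he he1 hye a ha).eq.symm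
  have hCM := c.le_M_of_E_le (c.centralizer_ne_top hy'1) hEC
  have hxy : e * t' ∈ centralizer ({y'} : Set G) := by
    have h1 : g * (s * t) * g⁻¹ ∈ centralizer ({g * y * g⁻¹} : Set G) :=
      mem_centralizer_conj.2 (Subgroup.mem_centralizer_singleton_iff.2
        (Subgroup.mem_centralizer_singleton_iff.1 hy).symm)
    rw [← hg, ht']
    rwa [show g * s * g⁻¹ * (g * t * g⁻¹) = g * (s * t) * g⁻¹ by group]
  have htM : t' ∈ c.M := by
    have h1 := mul_mem (c.H_le_M (c.E_le_H he)) (hCM hxy)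
    rwa [← mul_assoc, c.E_sq he, one_mul] at h1
  have htE : t' ∈ c.E := c.mem_E_of_mem_M htM (by
    calc g * t * g⁻¹ * (g * t * g⁻¹) = g * (t * t) * g⁻¹ := by group
      _ = 1 := by rw [ht2]; group)
  refine hst ?_
  have hc := (c.T_comm e (c.E_le_T he) t' (c.E_le_T htE)).eq
  rw [← hg, ht'] at hc
  show s * t = t * s
  have e1 : ∀ u v : G, g * u * g⁻¹ * (g * v * g⁻¹) = g * (u * v) * g⁻¹ := fun u v => by group
  rw [e1, e1] at hc
  exact mul_left_cancel (mul_right_cancel hc)

theorem Ctx.mem_centralizer_conj_of_inverts {s x y : G} (hsx : s * x * s⁻¹ = x⁻¹)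
    (hy : y ∈ centralizer ({x} : Set G)) : s * y * s⁻¹ ∈ centralizer ({x} : Set G) := by
  have h1 := (mem_centralizer_conj (g := s)).2 hy
  rw [hsx] at h1
  rw [Subgroup.mem_centralizer_singleton_iff] at h1 ⊢
  calc s * y * s⁻¹ * x = x * (x⁻¹ * (s * y * s⁻¹)) * x := by group
    _ = x * (s * y * s⁻¹ * x⁻¹) * x := by rw [h1]
    _ = x * (s * y * s⁻¹) := by group

theorem Ctx.inverts_prod {s t : G} (hs2 : s * s = 1) (ht2 : t * t = 1) :
    s * (s * t) * s⁻¹ = (s * t)⁻¹ := by
  rw [mul_inv_rev, inv_eq_of_mul_eq_one_right ht2, inv_eq_of_mul_eq_one_right hs2,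
    ← mul_assoc, hs2, one_mul]

/-- `s` inverts the centraliser of `s * t`. -/
theorem Ctx.inverts {s t : G} (hs2 : s * s = 1) (ht2 : t * t = 1) (hst : ¬ Commute s t) {y : G}
    (hy : y ∈ centralizer ({s * t} : Set G)) : s * y * s⁻¹ = y⁻¹ := by
  have hx := c.inverts_prod hs2 ht2
  set C := centralizer ({s * t} : Set G)
  let φ : C →* C :=
    { toFun := fun z => ⟨s * z * s⁻¹, c.mem_centralizer_conj_of_inverts hx z.2⟩
      map_one' := Subtype.ext (by simp)
      map_mul' := fun a b => Subtype.ext (by simp [mul_assoc]) }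
  have hfpf : MonoidHom.FixedPointFree φ := by
    intro z hz
    refine Subtype.ext (c.fix_eq_one hs2 ht2 hst z.2 ?_)
    have h1 : s * (z : G) * s⁻¹ = z := congrArg Subtype.val hz
    show (z : G) * s = s * z
    calc (z : G) * s = s * z * s⁻¹ * s := by rw [h1]
      _ = s * z := by group
  have hinv : Function.Involutive φ := fun z => Subtype.ext (by
    show s * (s * (z : G) * s⁻¹) * s⁻¹ = z
    calc s * (s * (z : G) * s⁻¹) * s⁻¹ = (s * s) * z * (s * s)⁻¹ := by group
      _ = z := by rw [hs2]; group)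
  exact congrArg Subtype.val (congrFun (hfpf.coe_eq_inv_of_involutive hinv) ⟨y, hy⟩)

theorem Ctx.commute_of_mem {s t : G} (hs2 : s * s = 1) (ht2 : t * t = 1) (hst : ¬ Commute s t)
    {a b : G} (ha : a ∈ centralizer ({s * t} : Set G)) (hb : b ∈ centralizer ({s * t} : Set G)) :
    Commute a b := by
  have h1 := c.inverts hs2 ht2 hst (mul_mem ha hb)
  rw [show s * (a * b) * s⁻¹ = (s * a * s⁻¹) * (s * b * s⁻¹) by group, c.inverts hs2 ht2 hst ha,
    c.inverts hs2 ht2 hst hb, mul_inv_rev] at h1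
  exact Commute.inv_inv_iff.1 h1

theorem Ctx.eq_one_of_sq {s t : G} (hs2 : s * s = 1) (ht2 : t * t = 1) (hst : ¬ Commute s t)
    {y : G} (hy : y ∈ centralizer ({s * t} : Set G)) (hy2 : y * y = 1) : y = 1 := by
  refine c.fix_eq_one hs2 ht2 hst hy ?_
  have h1 := c.inverts hs2 ht2 hst hy
  rw [inv_eq_of_mul_eq_one_right hy2] at h1
  show y * s = s * y
  calc y * s = s * y * s⁻¹ * s := by rw [h1]
    _ = s * y := by group

theorem Ctx.isPGroup_centralizer {s t : G} (hs2 : s * s = 1) (ht2 : t * t = 1)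
    (hst : ¬ Commute s t) : IsPGroup p (centralizer ({s * t} : Set G)) := by
  have hp : p.Prime := hpF.out
  intro y
  obtain ⟨k, m, hm, hn⟩ := Nat.exists_eq_pow_mul_and_not_dvd (orderOf_pos y).ne' p hp.ne_one
  refine ⟨k, Subtype.ext ?_⟩
  set z : G := (y : G) ^ p ^ k with hz
  have hzC : z ∈ centralizer ({s * t} : Set G) := pow_mem y.2 _
  have hoz : orderOf z = m := by
    rw [hz, orderOf_pow' _ (pow_ne_zero _ hp.ne_zero), Subgroup.orderOf_coe, hn,
      Nat.gcd_eq_right (Dvd.intro m rfl), Nat.mul_div_cancel_left _ (pow_pos hp.pos _)]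
  have hsn : Subgroup.zpowers s ≤ normalizer (Subgroup.zpowers z : Set G) := by
    rw [Subgroup.zpowers_le, Subgroup.mem_normalizer_iff]
    have key : ∀ a ∈ Subgroup.zpowers z, s * a * s⁻¹ ∈ Subgroup.zpowers z := fun a ha => by
      rw [c.inverts hs2 ht2 hst ((Subgroup.zpowers_le.2 hzC) ha)]
      exact inv_mem ha
    refine fun a => ⟨key a, fun ha => ?_⟩
    have := key _ ha
    rwa [show s * (s * a * s⁻¹) * s⁻¹ = (s * s) * a * (s * s)⁻¹ by group, hs2, one_mul, inv_one,
      mul_one] at this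
  have hs1 : s ≠ 1 := fun h => hst (h ▸ Commute.one_left t)
  have hcop := coprime_card_sup (p := p) hsn
    (by
      rw [Nat.card_zpowers, orderOf_eq_prime (by rw [pow_two, hs2]) hs1]
      exact (Nat.coprime_primes Nat.prime_two hp).2 (Ne.symm c.hp2))
    (by rw [Nat.card_zpowers, hoz]; exact ((hp.coprime_iff_not_dvd).2 hm).symm)
  exact c.fix_eq_one hs2 ht2 hst hzC (c.ab _ hcop z
    (Subgroup.mem_sup_right (Subgroup.mem_zpowers z)) s
    (Subgroup.mem_sup_left (Subgroup.mem_zpowers s)))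

theorem Ctx.prod_ne_one {s t : G} (hs2 : s * s = 1) (hst : ¬ Commute s t) : s * t ≠ 1 := fun h => by
  have h' : t = s := by rw [← inv_eq_of_mul_eq_one_right hs2, inv_eq_of_mul_eq_one_right h]
  exact hst (h' ▸ Commute.refl s)

/-- The centraliser of `s * t` is a Sylow subgroup, self-centralising. -/
theorem Ctx.exists_sylow_centralizer {s t : G} (hs2 : s * s = 1) (ht2 : t * t = 1)
    (hst : ¬ Commute s t) :
    ∃ P : Sylow p G, (P : Subgroup G) = centralizer ({s * t} : Set G) ∧
      ∀ a ∈ (P : Subgroup G), a ≠ 1 → centralizer ({a} : Set G) = (P : Subgroup G) := by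
  set x := s * t with hx
  set A := centralizer ({x} : Set G) with hA
  have hxA : x ∈ A := Subgroup.mem_centralizer_singleton_iff.2 rfl
  have hCC : ∀ a ∈ A, a ≠ 1 → centralizer ({a} : Set G) = A := by
    intro a ha ha1
    set t' := s * a with ht'
    have hst' : s * t' = a := by rw [ht', ← mul_assoc, hs2, one_mul]
    have ht'2 : t' * t' = 1 := by
      calc t' * t' = (s * a * s⁻¹) * (s * s) * a := by rw [ht']; group
        _ = 1 := by rw [c.inverts hs2 ht2 hst ha, hs2, mul_one, inv_mul_cancel]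
    have hnc : ¬ Commute s t' := fun h => ha1 (c.eq_one_of_sq hs2 ht2 hst ha (by
      have h1 : s * t' = t' * s := h.eq
      rw [hst'] at h1
      have h2 : t' * s = a⁻¹ := by
        rw [← hst', mul_inv_rev, inv_eq_of_mul_eq_one_right ht'2, inv_eq_of_mul_eq_one_right hs2]
      rw [h2] at h1
      nth_rewrite 1 [h1]
      exact inv_mul_cancel a))
    have hxa : x ∈ centralizer ({a} : Set G) :=
      Subgroup.mem_centralizer_singleton_iff.2 (Subgroup.mem_centralizer_singleton_iff.1 ha).symm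
    refine le_antisymm (fun b hb => ?_) fun b hb => ?_
    · rw [← hst'] at hb hxa
      exact Subgroup.mem_centralizer_singleton_iff.2 (c.commute_of_mem hs2 ht'2 hnc hb hxa).eq
    · exact Subgroup.mem_centralizer_singleton_iff.2 (c.commute_of_mem hs2 ht2 hst hb ha).eq
  obtain ⟨P, hP⟩ := (c.isPGroup_centralizer hs2 ht2 hst).exists_le_sylow
  have hPA : (P : Subgroup G) = A := by
    refine le_antisymm ?_ hP
    haveI : Nontrivial (P : Subgroup G) :=
      ⟨⟨⟨x, hP hxA⟩, 1, fun h => c.prod_ne_one hs2 hst (congrArg Subtype.val h)⟩⟩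
    haveI := P.isPGroup'.center_nontrivial
    obtain ⟨⟨z, hz⟩, hz1⟩ := exists_ne (1 : Subgroup.center (P : Subgroup G))
    have hz' := Subgroup.mem_center_iff.1 hz
    have hzA : (z : G) ∈ A := Subgroup.mem_centralizer_singleton_iff.2
      (congrArg Subtype.val (hz' ⟨x, hP hxA⟩)).symm
    rw [← hCC _ hzA fun h => hz1 (Subtype.ext (Subtype.ext h))]
    exact fun y hy => Subgroup.mem_centralizer_singleton_iff.2 (congrArg Subtype.val (hz' ⟨y, hy⟩))
  exact ⟨P, hPA, fun a ha ha1 => (hCC a (hPA ▸ ha) ha1).trans hPA.symm⟩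

theorem Ctx.exists_noncommuting : ∃ s t : G, s * s = 1 ∧ t * t = 1 ∧ ¬ Commute s t := by
  obtain ⟨e, he, he1⟩ := c.exists_E
  obtain ⟨t, ht2, htM⟩ := c.exists_involution_not_mem_M
  exact ⟨e, t, c.E_sq he, ht2, fun h => htM (c.centralizer_le_M (c.E_le_H he) he1
    (Subgroup.mem_centralizer_singleton_iff.2 h.eq.symm))⟩

theorem Ctx.card_centralizer_eq {e : G} (he : e ∈ c.E) (he1 : e ≠ 1) :
    Nat.card {t : {x : G // x * x = 1 ∧ x ≠ 1} // Commute e (t : G)} = p := by
  classical
  have hC : ∀ t : G, t * t = 1 → Commute e t → t ∈ c.E := fun t ht2 h =>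
    c.mem_E_of_mem_M (c.centralizer_le_M (c.E_le_H he) he1
      (Subgroup.mem_centralizer_singleton_iff.2 h.eq.symm)) ht2
  have heq : Nat.card {t : {x : G // x * x = 1 ∧ x ≠ 1} // Commute e (t : G)} =
      ((c.E : Set G) \ {1}).ncard := by
    rw [← Nat.card_coe_set_eq]
    refine Nat.card_congr
      { toFun := fun t => ⟨t.1.1, hC _ t.1.2.1 t.2, t.1.2.2⟩
        invFun := fun t => ⟨⟨t.1, c.E_sq t.2.1, t.2.2⟩,
          c.T_comm e (c.E_le_T he) t.1 (c.E_le_T t.2.1)⟩
        left_inv := fun t => rfl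
        right_inv := fun t => rfl }
  rw [heq, Set.ncard_sdiff_singleton_of_mem (one_mem c.E), ← Nat.card_coe_set_eq]
  show Nat.card c.E - 1 = p
  rw [c.card_E, Nat.add_sub_cancel]

theorem Ctx.false : False := by
  classical
  have hp : p.Prime := hpF.out
  haveI : Fact (Nat.Prime 2) := ⟨Nat.prime_two⟩
  obtain ⟨s0, t0, hs0, ht0, hst0⟩ := c.exists_noncommuting
  obtain ⟨P0, hP0, hP0cc⟩ := c.exists_sylow_centralizer hs0 ht0 hst0
  have hx0 : s0 * t0 ∈ (P0 : Subgroup G) := hP0 ▸ Subgroup.mem_centralizer_singleton_iff.2 rfl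
  obtain ⟨b, hb⟩ := IsPGroup.iff_card.1 P0.isPGroup'
  have hb0 : b ≠ 0 := fun h => c.prod_ne_one hs0 hst0 (by
    rw [h, pow_zero] at hb
    exact Subgroup.mem_bot.1 (Subgroup.card_eq_one.1 hb ▸ hx0))
  -- every `p`-element lies in a conjugate of `P0`, hence is inverted
  have hcc : ∀ x : G, x ≠ 1 → IsPGroup p (Subgroup.zpowers x) →
      Nat.card (centralizer ({x} : Set G)) = p ^ b ∧
        ∃ s : G, s * s = 1 ∧ s ≠ 1 ∧ s * x * s⁻¹ = x⁻¹ := by
    intro x hx1 hx
    obtain ⟨P, hP⟩ := hx.exists_le_sylow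
    obtain ⟨g, hg⟩ := MulAction.exists_smul_eq G P0 P
    have hxP : x ∈ ((g • P0 : Sylow p G) : Subgroup G) := hg.symm ▸ hP (Subgroup.mem_zpowers x)
    rw [Sylow.coe_subgroup_smul] at hxP
    obtain ⟨a, ha, hax⟩ := hxP
    have hax' : g * a * g⁻¹ = x := hax
    have ha1 : a ≠ 1 := fun h => hx1 (by rw [← hax', h, mul_one, mul_inv_cancel])
    refine ⟨?_, g * s0 * g⁻¹, ?_, ?_, ?_⟩
    · rw [← hb, ← hP0cc a ha ha1, ← hax']
      exact Nat.card_congr
        { toFun := fun y => ⟨g⁻¹ * y * g, (mem_centralizer_conj (g := g)).1 (by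
            simpa [mul_assoc] using y.2)⟩
          invFun := fun y => ⟨g * y * g⁻¹, mem_centralizer_conj.2 y.2⟩
          left_inv := fun y => Subtype.ext (by simp [mul_assoc])
          right_inv := fun y => Subtype.ext (by simp [mul_assoc]) }
    · calc g * s0 * g⁻¹ * (g * s0 * g⁻¹) = g * (s0 * s0) * g⁻¹ := by group
        _ = 1 := by rw [hs0]; group
    · rw [ne_eq, conj_eq_one_iff]
      exact fun h => hst0 (h ▸ Commute.one_left t0)
    · rw [← hax']
      calc g * s0 * g⁻¹ * (g * a * g⁻¹) * (g * s0 * g⁻¹)⁻¹ = g * (s0 * a * s0⁻¹) * g⁻¹ := by group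
        _ = _ := by rw [c.inverts hs0 ht0 hst0 (hP0 ▸ ha)]; group
  obtain ⟨e, he, he1⟩ := c.exists_E
  -- `p` does not divide the order of an involution centraliser
  have hpC : ¬ p ∣ Nat.card (centralizer ({e} : Set G)) := by
    intro hd
    obtain ⟨y, hy⟩ := exists_prime_orderOf_dvd_card' p hd
    have hy1 : (y : G) ≠ 1 := fun h => by
      rw [← Subgroup.orderOf_coe y, h, orderOf_one] at hy
      exact hp.ne_one hy.symm
    have hyp : IsPGroup p (Subgroup.zpowers (y : G)) := IsPGroup.of_card (n := 1) (by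
      rw [Nat.card_zpowers, Subgroup.orderOf_coe, hy, pow_one])
    have heC : e ∈ centralizer ({(y : G)} : Set G) := Subgroup.mem_centralizer_singleton_iff.2
      (Subgroup.mem_centralizer_singleton_iff.1 y.2).symm
    have h2 : 2 ∣ p ^ b := by
      rw [← (hcc _ hy1 hyp).1, ← orderOf_eq_prime (show e ^ 2 = 1 by rw [pow_two, c.E_sq he]) he1]
      exact Subgroup.orderOf_dvd_natCard _ heC
    exact c.hp2 ((Nat.prime_dvd_prime_iff_eq Nat.prime_two hp).1
      (Nat.prime_two.dvd_of_dvd_pow h2)).symm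
  -- the involutions
  let I := {x : G // x * x = 1 ∧ x ≠ 1}
  have hI : Nat.card I = (centralizer ({e} : Set G)).index := by
    rw [← card_isConj_eq_index]
    refine Nat.card_congr (Equiv.subtypeEquivRight fun x =>
      ⟨fun h => c.isConj_involution he he1 h.1 h.2, fun h => ?_⟩)
    obtain ⟨g, rfl⟩ := isConj_iff.1 h
    refine ⟨?_, by rwa [ne_eq, conj_eq_one_iff]⟩
    calc g * e * g⁻¹ * (g * e * g⁻¹) = g * (e * e) * g⁻¹ := by group
      _ = 1 := by rw [c.E_sq he]; group
  obtain ⟨N', hN'⟩ : p ^ b ∣ Nat.card I := by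
    have h1 : p ^ b ∣ Nat.card (centralizer ({e} : Set G)) * Nat.card I := by
      rw [hI, Subgroup.card_mul_index, ← hb]
      exact Subgroup.card_subgroup_dvd_card _
    exact (Nat.Coprime.pow_left b ((hp.coprime_iff_not_dvd).2 hpC)).dvd_of_dvd_mul_left h1
  -- commuting pairs
  let R : I × I → Prop := fun q => Commute (q.1 : G) q.2
  have hR : Nat.card {q // R q} = Nat.card I * p := by
    have e1 : {q // R q} ≃ Σ s : I, {t : I // Commute (s : G) t} :=
      { toFun := fun q => ⟨q.1.1, q.1.2, q.2⟩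
        invFun := fun q => ⟨(q.1, q.2.1), q.2.2⟩
        left_inv := fun q => rfl
        right_inv := fun q => rfl }
    haveI := Fintype.ofFinite I
    rw [Nat.card_congr e1, Nat.card_sigma]
    have hfib : ∀ s : I, Nat.card {t : I // Commute (s : G) t} = p := by
      intro s
      obtain ⟨g, hg⟩ := isConj_iff.1 (c.isConj_involution he he1 s.2.1 s.2.2)
      let σ : I ≃ I :=
        { toFun := fun t => ⟨g * t * g⁻¹, by
            calc g * (t : G) * g⁻¹ * (g * t * g⁻¹) = g * ((t : G) * t) * g⁻¹ := by group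
              _ = 1 := by rw [t.2.1]; group, by rw [ne_eq, conj_eq_one_iff]; exact t.2.2⟩
          invFun := fun t => ⟨g⁻¹ * t * g⁻¹⁻¹, by
            calc g⁻¹ * (t : G) * g⁻¹⁻¹ * (g⁻¹ * t * g⁻¹⁻¹) = g⁻¹ * ((t : G) * t) * g⁻¹⁻¹ := by group
              _ = 1 := by rw [t.2.1]; group, by rw [ne_eq, conj_eq_one_iff]; exact t.2.2⟩
          left_inv := fun t => Subtype.ext (by simp [mul_assoc])
          right_inv := fun t => Subtype.ext (by simp [mul_assoc]) }
      rw [← c.card_centralizer_eq he he1]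
      refine (Nat.card_congr (σ.subtypeEquiv fun t => ?_)).symm
      show Commute e (t : G) ↔ Commute (s : G) (g * t * g⁻¹)
      rw [← hg]
      exact (Commute.conj_iff g).symm
    rw [Finset.sum_congr rfl fun s _ => hfib s, Finset.sum_const, Finset.card_univ, smul_eq_mul,
      Nat.card_eq_fintype_card]
  -- noncommuting pairs
  let Xs := {x : G // x ≠ 1 ∧ IsPGroup p (Subgroup.zpowers x)}
  have hpairs : {q // ¬ R q} ≃ Σ x : Xs, {s : I // (s : G) * x * (s : G)⁻¹ = (x : G)⁻¹} :=
    { toFun := fun q =>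
        ⟨⟨(q.1.1 : G) * q.1.2, c.prod_ne_one q.1.1.2.1 q.2,
          (c.isPGroup_centralizer q.1.1.2.1 q.1.2.2.1 q.2).to_le (Subgroup.zpowers_le.2
            (Subgroup.mem_centralizer_singleton_iff.2 rfl))⟩,
          q.1.1, c.inverts_prod q.1.1.2.1 q.1.2.2.1⟩
      invFun := fun q => ⟨(q.2.1, ⟨(q.2.1 : G) * q.1.1, by
          calc (q.2.1 : G) * q.1.1 * ((q.2.1 : G) * q.1.1)
              = ((q.2.1 : G) * q.1.1 * (q.2.1 : G)⁻¹) * ((q.2.1 : G) * q.2.1) * q.1.1 := by group
            _ = 1 := by rw [q.2.2, q.2.1.2.1, mul_one, inv_mul_cancel], by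
          intro h
          have h1 : (q.1.1 : G) = q.2.1 := by
            rw [← inv_eq_of_mul_eq_one_right q.2.1.2.1, inv_eq_of_mul_eq_one_right h]
          have h2 : 2 ∣ p := by
            obtain ⟨k, hk⟩ := q.1.2.2 ⟨_, Subgroup.mem_zpowers (q.1.1 : G)⟩
            have h3 : orderOf (q.1.1 : G) ∣ p ^ k :=
              orderOf_dvd_of_pow_eq_one (congrArg Subtype.val hk)
            rw [h1, orderOf_eq_prime (by rw [pow_two, q.2.1.2.1]) q.2.1.2.2] at h3
            exact Nat.prime_two.dvd_of_dvd_pow h3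
          exact c.hp2 ((Nat.prime_dvd_prime_iff_eq Nat.prime_two hp).1 h2).symm⟩), by
        intro h
        have h1 : (q.2.1 : G) * ((q.2.1 : G) * q.1.1) = (q.2.1 : G) * q.1.1 * q.2.1 := h.eq
        rw [← mul_assoc, q.2.1.2.1, one_mul] at h1
        have h2 : (q.1.1 : G) = (q.1.1 : G)⁻¹ := by
          conv_lhs => rw [h1]
          conv_rhs => rw [← q.2.2, inv_eq_of_mul_eq_one_right q.2.1.2.1]
        obtain ⟨k, hk⟩ := q.1.2.2 ⟨_, Subgroup.mem_zpowers (q.1.1 : G)⟩
        have h3 : orderOf (q.1.1 : G) ∣ p ^ k :=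
          orderOf_dvd_of_pow_eq_one (congrArg Subtype.val hk)
        rw [orderOf_eq_prime (by rw [pow_two]; exact eq_inv_iff_mul_eq_one.1 h2) q.1.2.1] at h3
        exact c.hp2 ((Nat.prime_dvd_prime_iff_eq Nat.prime_two hp).1
          (Nat.prime_two.dvd_of_dvd_pow h3)).symm⟩
      left_inv := fun q => Subtype.ext (Prod.ext rfl (Subtype.ext (by
        show (q.1.1 : G) * ((q.1.1 : G) * q.1.2) = q.1.2
        rw [← mul_assoc, q.1.1.2.1, one_mul])))
      right_inv := fun q => by
        have h1 : (q.2.1 : G) * ((q.2.1 : G) * q.1.1) = q.1.1 := by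
          rw [← mul_assoc, q.2.1.2.1, one_mul]
        exact Sigma.subtype_ext (Subtype.ext h1) rfl }
  have hfib2 : ∀ x : Xs, Nat.card {s : I // (s : G) * x * (s : G)⁻¹ = (x : G)⁻¹} = p ^ b := by
    intro x
    obtain ⟨hcard, s, hs2, hs1, hsx⟩ := hcc x x.2.1 x.2.2
    have hsi : s⁻¹ = s := inv_eq_of_mul_eq_one_right hs2
    have hinv : ∀ y ∈ centralizer ({(x : G)} : Set G), s * y * s⁻¹ = y⁻¹ := by
      have hsx2 : s * (s * (x : G)) = x := by rw [← mul_assoc, hs2, one_mul]
      have hb2 : s * (x : G) * (s * x) = 1 := by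
        calc s * (x : G) * (s * x) = (s * x * s⁻¹) * (s * s) * x := by group
          _ = 1 := by rw [hsx, hs2, mul_one, inv_mul_cancel]
      have hnc : ¬ Commute s (s * (x : G)) := fun h => by
        have h1 := h.eq
        rw [hsx2, show s * (x : G) * s = s * x * s⁻¹ by rw [hsi], hsx] at h1
        obtain ⟨k, hk⟩ := x.2.2 ⟨_, Subgroup.mem_zpowers (x : G)⟩
        have h3 : orderOf (x : G) ∣ p ^ k := orderOf_dvd_of_pow_eq_one (congrArg Subtype.val hk)
        rw [orderOf_eq_prime (by rw [pow_two]; exact eq_inv_iff_mul_eq_one.1 h1) x.2.1] at h3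
        exact c.hp2 ((Nat.prime_dvd_prime_iff_eq Nat.prime_two hp).1
          (Nat.prime_two.dvd_of_dvd_pow h3)).symm
      intro y hy
      rw [← hsx2] at hy
      exact c.inverts hs2 hb2 hnc hy
    rw [← hcard]
    refine Nat.card_congr
      { toFun := fun u => ⟨s * u.1.1, ?_⟩
        invFun := fun y => ⟨⟨s * y, ?_, ?_⟩, ?_⟩
        left_inv := fun u => Subtype.ext (Subtype.ext (by
          show s * (s * (u.1 : G)) = u.1
          rw [← mul_assoc, hs2, one_mul]))
        right_inv := fun y => Subtype.ext (by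
          show s * (s * (y : G)) = y
          rw [← mul_assoc, hs2, one_mul]) }
    · rw [Subgroup.mem_centralizer_singleton_iff]
      calc s * (u.1 : G) * x = s * ((u.1 : G) * x * (u.1 : G)⁻¹) * u.1 := by group
        _ = (s * (x : G) * s⁻¹)⁻¹ * (s * u.1) := by rw [u.2]; group
        _ = x * (s * u.1) := by rw [hsx, inv_inv]
    · calc s * (y : G) * (s * y) = (s * y * s⁻¹) * (s * s) * y := by group
        _ = 1 := by rw [hinv y y.2, hs2, mul_one, inv_mul_cancel]
    · intro h
      have h1 : (y : G) = s := by rw [← hsi, inv_eq_of_mul_eq_one_right h]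
      have h2 := Subgroup.mem_centralizer_singleton_iff.1 y.2
      rw [h1] at h2
      have h4 : (x : G) = (x : G)⁻¹ := by
        calc (x : G) = s * x * s⁻¹ := by rw [h2, mul_inv_cancel_right]
          _ = _ := hsx
      obtain ⟨k, hk⟩ := x.2.2 ⟨_, Subgroup.mem_zpowers (x : G)⟩
      have h3 : orderOf (x : G) ∣ p ^ k := orderOf_dvd_of_pow_eq_one (congrArg Subtype.val hk)
      rw [orderOf_eq_prime (by rw [pow_two]; exact eq_inv_iff_mul_eq_one.1 h4) x.2.1] at h3
      exact c.hp2 ((Nat.prime_dvd_prime_iff_eq Nat.prime_two hp).1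
        (Nat.prime_two.dvd_of_dvd_pow h3)).symm
    · show s * (y : G) * x * (s * y)⁻¹ = (x : G)⁻¹
      calc s * (y : G) * x * (s * y)⁻¹ = s * ((y : G) * x * (y : G)⁻¹) * s⁻¹ := by group
        _ = _ := by
          rw [Subgroup.mem_centralizer_singleton_iff.1 y.2, mul_inv_cancel_right, hsx]
  have hnR : Nat.card {q // ¬ R q} = Nat.card Xs * p ^ b := by
    haveI := Fintype.ofFinite Xs
    rw [Nat.card_congr hpairs, Nat.card_sigma, Finset.sum_congr rfl fun x _ => hfib2 x,
      Finset.sum_const, Finset.card_univ, smul_eq_mul, Nat.card_eq_fintype_card]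
  have htot : Nat.card I * p + Nat.card Xs * p ^ b = Nat.card I * Nat.card I := by
    rw [← hR, ← hnR, ← Nat.card_sum, Nat.card_congr (Equiv.sumCompl R), Nat.card_prod]
  -- the number of `p`-elements is prime to `p`
  have hXs : ¬ p ∣ Nat.card Xs := by
    let Y := {x : G // IsPGroup p (Subgroup.zpowers x)}
    letI : MulAction (P0 : Subgroup G) Y :=
      { smul := fun g x => ⟨(g : G) * x.1 * (g : G)⁻¹, by
          have h := x.2.map (MulAut.conj (g : G)).toMonoidHom
          rw [MonoidHom.map_zpowers] at h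
          exact h⟩
        one_smul := fun x => Subtype.ext (show ((1 : (P0 : Subgroup G)) : G) * x.1 *
          ((1 : (P0 : Subgroup G)) : G)⁻¹ = x.1 by simp)
        mul_smul := fun g h x => Subtype.ext (show ((g * h : (P0 : Subgroup G)) : G) * x.1 *
          ((g * h : (P0 : Subgroup G)) : G)⁻¹ =
          (g : G) * ((h : G) * x.1 * (h : G)⁻¹) * (g : G)⁻¹ by simp [mul_assoc]) }
    have hmod := P0.isPGroup'.card_modEq_card_fixedPoints (α := Y)
    have efix : MulAction.fixedPoints (P0 : Subgroup G) Y ≃ (P0 : Subgroup G) :=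
      { toFun := fun x => ⟨x.1.1, by
          refine hP0.ge ?_
          rw [Subgroup.mem_centralizer_singleton_iff]
          have h : s0 * t0 * (x.1.1 : G) * (s0 * t0)⁻¹ = x.1.1 :=
            congrArg Subtype.val (x.2 ⟨_, hx0⟩)
          calc (x.1.1 : G) * (s0 * t0) = s0 * t0 * x.1.1 * (s0 * t0)⁻¹ * (s0 * t0) := by rw [h]
            _ = _ := by group⟩
        invFun := fun y => ⟨⟨y, (P0.isPGroup').to_le (Subgroup.zpowers_le.2 y.2)⟩, fun g =>
          Subtype.ext (by
            show (g : G) * y * (g : G)⁻¹ = y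
            have h : (g : G) * y = y * g := (c.commute_of_mem hs0 ht0 hst0 (hP0 ▸ g.2) (hP0 ▸ y.2)).eq
            rw [h, mul_inv_cancel_right])⟩
        left_inv := fun x => rfl
        right_inv := fun y => rfl }
    rw [Nat.card_congr efix, hb] at hmod
    have hY : Nat.card Y = Nat.card Xs + 1 := by
      have e1 : Nat.card Xs =
          ({x : G | IsPGroup p (Subgroup.zpowers x)} \ {1} : Set G).ncard := by
        rw [← Nat.card_coe_set_eq]
        exact Nat.card_congr (Equiv.subtypeEquivRight fun x => ⟨fun h => ⟨h.2, h.1⟩,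
          fun h => ⟨h.2, h.1⟩⟩)
      rw [e1, Set.ncard_sdiff_singleton_add_one (by
        show IsPGroup p (Subgroup.zpowers (1 : G))
        rw [Subgroup.zpowers_one_eq_bot]; exact IsPGroup.of_bot), ← Nat.card_coe_set_eq]
      rfl
    intro hd
    have h1 : p ∣ Nat.card Y :=
      (Nat.modEq_zero_iff_dvd).1 (hmod.trans (Nat.modEq_zero_iff_dvd.2 (dvd_pow_self p hb0)))
    rw [hY, Nat.dvd_add_right hd] at h1
    exact hp.not_dvd_one h1
  apply hXs
  have hpos : 0 < p ^ b := pow_pos hp.pos _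
  have hX : Nat.card Xs + N' * p = N' * (p ^ b * N') := by
    refine Nat.eq_of_mul_eq_mul_left hpos ?_
    rw [hN'] at htot
    linarith
  have h1 : p ∣ N' * (p ^ b * N') := ((dvd_pow_self p hb0).mul_right N').mul_left N'
  rw [← hX] at h1
  exact (Nat.dvd_add_left (dvd_mul_left p N')).1 h1

end Finite

end Cfsg.Agent.H77.PPAb
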